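import Cfsg.Agent.G75.C

/-! # Commuting strongly closed subgroups: the statements for subgroups -/

set_option autoImplicit false
set_option linter.unusedVariables false
set_option linter.unusedSectionVars false

namespace Cfsg.Agent.G75
open Cfsg Cfsg.Agent.BG Cfsg.Agent.Inv Cfsg.Agent.SE MulAction Subgroup PHom
open Cfsg.Agent.ZD (XZ mem_XZ XZ_le XZ_le_of XZ_mono)

variable {G : Type*} [Group G] [Finite G] {S T T₁ T₂ P : Subgroup G} {x y g : G}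

/-- the conjugates of the elements of `T` -/
def CJ (T : Subgroup G) : Set G := {x | ∃ t ∈ T, ∃ g : G, g * t * g⁻¹ = x}

theorem mem_CJ (h : x ∈ T) : x ∈ CJ T := ⟨x, h, 1, by simp⟩
theorem CJ_conj (h : x ∈ CJ T) (g : G) : g * x * g⁻¹ ∈ CJ T := by
  obtain ⟨t, ht, k, rfl⟩ := h
  exact ⟨t, ht, g * k, by group⟩
theorem mem_of_CJ (hT : IsStronglyClosed T S) (h : x ∈ CJ T) (h2 : x ∈ S) : x ∈ T := by
  obtain ⟨t, ht, k, rfl⟩ := h
  exact hT.2 t ht k h2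

theorem CJ_two (hS : Syl 2 S ⊤) (hP : PiG {2} P) :
    ∃ g : G, ∀ T, IsStronglyClosed T S → ∀ x ∈ P, x ∈ CJ T → g * x * g⁻¹ ∈ T := by
  obtain ⟨g, -, e⟩ := hS.cj_sub Nat.prime_two le_top hP
  exact ⟨g, fun T hT x a b => mem_of_CJ hT (CJ_conj b g) (e (mem_cj_conj.2 a))⟩

theorem sc_CJ (hS : Syl 2 S ⊤) (hT : IsStronglyClosed T S) : SC (CJ T) where
  conj := CJ_conj
  two := by rintro _ ⟨t, ht, g, rfl⟩; exact pie_conj.2 (hS.pi.elt (hT.1 ht))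
  one := mem_CJ (one_mem _)
  mul := fun hP a b c d => by
    obtain ⟨g, H⟩ := CJ_two hS hP
    exact ⟨_, mul_mem (H T hT _ a c) (H T hT _ b d), g⁻¹, by group⟩

theorem sp_CJ (hS : Syl 2 S ⊤) (h1 : IsStronglyClosed T₁ S) (h2 : IsStronglyClosed T₂ S) (c : T₁ ≤ C[T₂])
    (d : T₁ ⊓ T₂ = ⊥) : SP (CJ T₁) (CJ T₂) where
  l := sc_CJ hS h1
  r := sc_CJ hS h2
  comm := fun {P x y} hP a b e f => by
    obtain ⟨g, H⟩ := CJ_two hS hP
    have := mem_C_comm c (H _ h1 _ a e) (H _ h2 _ b f)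
    calc _ = g⁻¹ * (g * x * g⁻¹ * (g * y * g⁻¹)) * g := by group
      _ = _ := by rw [this]; group
  disj := fun {x} a b => by
    obtain ⟨g, H⟩ := CJ_two hS (pig_zpowers.2 ((sc_CJ hS h1).two a))
    simpa using mem_bot.1 (d.le (mem_inf.2 ⟨H _ h1 _ (mem_zpowers x) a, H _ h2 _ (mem_zpowers x) b⟩))

theorem le_XZ_CJ (T : Subgroup G) : T ≤ XZ (CJ T) ⊤ := fun _ h => mem_XZ (mem_top _) (mem_CJ h)

theorem XZ_CJ (T : Subgroup G) : XZ (CJ T) ⊤ = normalClosure (T : Set G) :=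
  le_antisymm (XZ_le_of (by
    rintro _ - ⟨t, ht, g, rfl⟩; exact normalClosure_normal.conj_mem _ (subset_normalClosure ht) g))
    ((closure_le _).2 fun x hx => by
      obtain ⟨t, ht, c⟩ := Group.mem_conjugatesOfSet_iff.1 hx
      obtain ⟨g, e⟩ := isConj_iff.1 c
      exact mem_XZ (mem_top _) ⟨t, ht, g, e⟩)

/-- product fusion: the Sylow subgroup of the normal closure of one factor -/
theorem syl_inf {N₁ N₂ : Subgroup G} (hS : Syl 2 S ⊤) (h1 : IsStronglyClosed T₁ S) (c : T₂ ≤ C[T₁]) (e : T₁ ⊔ T₂ = S)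
    (e1 : XZ (CJ T₁) ⊤ = N₁) (l2 : T₂ ≤ N₂) (hc : N₂ ≤ C[N₁]) (ht : N₁ ⊔ N₂ = ⊤) : S ⊓ N₁ = T₁ := by
  have n1 : ⊤ ≤ N[N₁] := e1 ▸ (sc_CJ hS h1).norm (normG _)
  have l1 : T₁ ≤ N₁ := e1 ▸ le_XZ_CJ T₁
  have f := focal_le (K := T₁) Nat.prime_two (hS.inf_norm' le_top n1) fun x hx g hg hy => by
    obtain ⟨s, hs, t, ht, rfl⟩ := (mem_sup_l (cents_norm c)).1 (e.ge hx.1)
    have k := mem_C.1 (hc (l2 ht)) g hg
    have e2 : g * (s * t) * g⁻¹ = g * s * g⁻¹ * t := by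
      calc _ = g * s * g⁻¹ * (g * t) * g⁻¹ := by group
        _ = _ := by rw [k]; group
    have m := h1.2 s hs g (by simpa [e2] using mul_mem (mem_inf.1 hy).1 (inv_mem (e.le (mem_sup_right ht))))
    rw [e2, show (s * t)⁻¹ * (g * s * g⁻¹ * t) = t⁻¹ * (s⁻¹ * (g * s * g⁻¹)) * t by group]
    exact conj_mem' (cents_norm c ht) (mul_mem (inv_mem hs) m)
  have le : N₁ ≤ T₁ ⊔ ⁅N₁, N₁⁆ := e1.ge.trans (XZ_le_of (by
    rintro _ - ⟨t, h, g, rfl⟩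
    obtain ⟨a, ha, b, hb, rfl⟩ := (mem_sup_l (cents_norm hc)).1 (ht.ge (mem_top g))
    rw [show a * b * t * (a * b)⁻¹ = a * (b * t) * b⁻¹ * a⁻¹ by group, ← mem_C.1 (hc hb) t (l1 h),
      show a * (t * b) * b⁻¹ * a⁻¹ = a * t * a⁻¹ * t⁻¹ * t by group]
    exact mul_mem (mem_sup_right (comm_mem ha (l1 h))) (mem_sup_left h)))
  refine le_antisymm ((le_inf (inf_le_right.trans le) le_rfl).trans ((modl_r (l1.trans (der_norm _))
    (le_inf h1.1 l1)).le.trans (sup_le le_rfl ((inf_comm _ _).le.trans f)))) (le_inf h1.1 l1)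

theorem prod_fusion (hO : O[{2}ᶜ]((⊤ : Subgroup G)) = ⊥) (hO' : ∀ N : Subgroup G, N.Normal → Odd N.index → N = ⊤)
    (hS : Syl 2 S ⊤) (hp : IsInternalDirectProduct T₁ T₂ S) (h1 : IsStronglyClosed T₁ S)
    (h2 : IsStronglyClosed T₂ S) : ∃ G₁ G₂ : Subgroup G, G₁.Normal ∧ G₂.Normal ∧ IsInternalDirectProduct G₁ G₂ ⊤ ∧
      Syl 2 T₁ G₁ ∧ Syl 2 T₂ G₂ := by
  obtain ⟨-, -, c, d, e⟩ := hp
  have c1 := le_C_iff.2 c
  have p := sp_CJ hS h1 h2 c1 d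
  have n1 : ⊤ ≤ N[XZ (CJ T₁) ⊤] := p.l.norm (normG _)
  have n2 : ⊤ ≤ N[XZ (CJ T₂) ⊤] := p.r.norm (normG _)
  have hc := comm_eq_bot.1 (le_bot_iff.1 (p.main.trans hO.le))
  have ht : XZ (CJ T₁) ⊤ ⊔ XZ (CJ T₂) ⊤ = ⊤ := hO' _ (BG.normal_iff.2 (normY n1 n2)) (by
    rw [← relIndex_top_right]
    exact Nat.not_even_iff_odd.1 fun h => hS.not_dvd Nat.prime_two ((even_iff_two_dvd.1 h).trans
      (relIndex_dvd_left (e.ge.trans (sup_le_sup (le_XZ_CJ _) (le_XZ_CJ _))) _)))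
  have a1 := syl_inf hS h1 (cent_symm c1) e rfl (le_XZ_CJ _) (cent_symm hc) ht
  have a2 := syl_inf hS h2 c1 ((sup_comm _ _).trans e) rfl (le_XZ_CJ _) hc ((sup_comm _ _).trans ht)
  have n := normI n1 n2
  have o := (hS.inf_norm' le_top n).eq_bot_iff.1 (by rw [inf_inf_distrib_left, a1, a2, d])
  exact ⟨_, _, BG.normal_iff.2 n1, BG.normal_iff.2 n2, ⟨le_top, le_top, le_C_iff.1 hc,
    le_bot_iff.1 ((le_O le_top n o).trans hO.le), ht⟩, by simpa only [a1] using hS.inf_norm' le_top n1,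
    by simpa only [a2] using hS.inf_norm' le_top n2⟩

end Cfsg.Agent.G75
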