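import Cfsg.Agent.ZD.Fin
import Cfsg.Agent.H8.SC
import Cfsg.Agent.SFT.E

/-! # Commuting strongly closed subgroups (Goldschmidt 1975): set-up and reduction -/

set_option autoImplicit false
set_option linter.unusedVariables false
set_option linter.unusedSectionVars false

namespace Cfsg.Agent.G75
open Cfsg Cfsg.Agent.BG Cfsg.Agent.Inv Cfsg.Agent.SE MulAction Subgroup PHom
open Cfsg.Agent.ZD (XZ mem_XZ XZ_le XZ_le_of XZ_mono)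

universe u

section
variable {G : Type*} [Group G] [Finite G] {G' : Type*} [Group G'] [Finite G'] {Y Y₁ Y₂ : Set G}
  {P R M H K X S : Subgroup G} {x y g : G} {φ : PHom G G'}

/-- the conjugates of the elements of a strongly closed `2`-subgroup -/
structure SC (Y : Set G) : Prop where
  conj : ∀ {y : G}, y ∈ Y → ∀ g : G, g * y * g⁻¹ ∈ Y
  two : ∀ {y : G}, y ∈ Y → PiE {2} y
  one : (1 : G) ∈ Y
  mul : ∀ {P : Subgroup G} {x y : G}, PiG {2} P → x ∈ P → y ∈ P → x ∈ Y → y ∈ Y → x * y ∈ Y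

/-- a commuting disjoint pair -/
structure SP (Y₁ Y₂ : Set G) : Prop where
  l : SC Y₁
  r : SC Y₂
  comm : ∀ {P : Subgroup G} {x y : G}, PiG {2} P → x ∈ P → y ∈ P → x ∈ Y₁ → y ∈ Y₂ → x * y = y * x
  disj : ∀ {x : G}, x ∈ Y₁ → x ∈ Y₂ → x = 1

theorem SP.symm (h : SP Y₁ Y₂) : SP Y₂ Y₁ :=
  ⟨h.r, h.l, fun a b c d e => (h.comm a c b e d).symm, fun a b => h.disj b a⟩

theorem SC.pow (h : SC Y) (hy : y ∈ Y) (n : ℕ) : y ^ n ∈ Y := by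
  induction n with
  | zero => simpa using h.one
  | succ n ih =>
    rw [pow_succ]
    exact h.mul (pig_zpowers.2 (h.two hy)) (pow_mem (mem_zpowers y) n) (mem_zpowers y) ih hy

theorem SC.zp (h : SC Y) (hy : y ∈ Y) (hx : x ∈ zpowers y) : x ∈ Y := by
  obtain ⟨n, rfl⟩ := mem_powers_iff_mem_zpowers.2 hx
  exact h.pow hy n

theorem SC.inv (h : SC Y) (hy : y ∈ Y) : y⁻¹ ∈ Y := h.zp hy (inv_mem (mem_zpowers y))

theorem SC.mem (h : SC Y) (hP : PiG {2} P) (hx : x ∈ XZ Y P) : x ∈ Y := by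
  induction hx using closure_induction with
  | mem x hx => exact hx.2
  | one => exact h.one
  | mul x y a b c d => exact h.mul hP (XZ_le _ _ a) (XZ_le _ _ b) c d
  | inv x a b => exact h.inv b

theorem SC.norm (h : SC Y) (hX : X ≤ N[M]) : X ≤ N[XZ Y M] := fun g hg => mem_N_of_cj_le (cj_le_iff.2
  (XZ_le_of fun s a b => mem_cj_inv.2 (mem_XZ (conj_mem (hX hg) a) (h.conj b g))))

theorem SC.scl (h : SC Y) (hS : PiG {2} S) : IsStronglyClosed (XZ Y S) S :=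
  ⟨XZ_le _ _, fun x hx g hg => mem_XZ hg (h.conj (h.mem hS hx) g)⟩

theorem SC.syl (h : SC Y) (hy : y ∈ Y) (hM : y ∈ M) : ∃ S, Syl 2 S M ∧ y ∈ S := by
  obtain ⟨S, a, b⟩ := syl_superset Nat.prime_two (zp_le hM) (pig_zpowers.2 (h.two hy))
  exact ⟨S, a, b (mem_zpowers y)⟩

theorem SP.cent (h : SP Y₁ Y₂) (hP : PiG {2} P) : XZ Y₁ P ≤ C[XZ Y₂ P] := le_C_iff.2 fun a ha b hb =>
  h.comm hP (XZ_le _ _ ha) (XZ_le _ _ hb) (h.l.mem hP ha) (h.r.mem hP hb)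

/-- the image of `Y` -/
def imY (φ : PHom G G') (Y : Set G) : Set G' := {x | ∃ y ∈ φ.dom, y ∈ Y ∧ φ.app y = x}

theorem lift (hφ : φ.im φ.dom = ⊤) {P' : Subgroup G'} (hP : PiG {2} P') :
    ∃ P ≤ φ.dom, PiG {2} P ∧ ∀ Y, SC Y → ∀ x' ∈ P', x' ∈ imY φ Y → ∃ x ∈ P, x ∈ Y ∧ φ.app x = x' := by
  obtain ⟨P, hS⟩ := syl_exists Nat.prime_two (φ.pre P')
  have e : φ.im (φ.pre P') = P' := im_pre (hφ ▸ le_top)
  have e2 := hS.im_eq (pre_le_dom _) (e.symm ▸ hP)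
  have d := hS.le.trans (pre_le_dom _)
  refine ⟨P, d, hS.pi, ?_⟩
  rintro Y h _ hx ⟨y, y1, y2, rfl⟩
  obtain ⟨l, hl, le⟩ := hS.cj_sub Nat.prime_two (zp_le (mem_pre.2 ⟨y1, hx⟩)) (pig_zpowers.2 (h.two y2))
  obtain ⟨p, hp, e3⟩ := (mem_im' d).1 ((e2.trans e).ge (mem_pre.1 hl).2)
  have l1 := (mem_pre.1 hl).1
  refine ⟨p⁻¹ * (l * y * l⁻¹) * p⁻¹⁻¹, conj_mem (normG _ (inv_mem hp)) (le (mem_cj_conj.2 (mem_zpowers y))),
    h.conj (h.conj y2 l) _, ?_⟩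
  rw [app_conj (inv_mem (d hp)) (conj_mem (normG _ l1) y1), app_conj l1 y1, app_inv (d hp), e3]
  group

theorem SC.im (h : SC Y) (hφ : φ.im φ.dom = ⊤) : SC (imY φ Y) where
  conj := by
    rintro _ ⟨y, y1, y2, rfl⟩ g'
    obtain ⟨g, hg, rfl⟩ := (mem_im' le_rfl).1 (hφ.ge (mem_top g'))
    exact ⟨_, conj_mem (normG _ hg) y1, h.conj y2 g, app_conj hg y1⟩
  two := by
    rintro _ ⟨y, y1, y2, rfl⟩
    exact (h.two y2).app y1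
  one := ⟨1, one_mem _, h.one, app_one⟩
  mul := fun hP a b c d => by
    obtain ⟨P, d1, p, H⟩ := lift hφ hP
    obtain ⟨x, x1, x2, rfl⟩ := H Y h _ a c
    obtain ⟨y, y1, y2, rfl⟩ := H Y h _ b d
    exact ⟨_, d1 (mul_mem x1 y1), h.mul p x1 y1 x2 y2, app_mul (d1 x1) (d1 y1)⟩

/-- the two sets stay disjoint modulo `K` -/
def DM (Y₁ Y₂ : Set G) (K : Subgroup G) : Prop :=
  ∀ (P : Subgroup G) (x y : G), PiG {2} P → x ∈ P → y ∈ P → x ∈ Y₁ → y ∈ Y₂ → x⁻¹ * y ∈ K → x ∈ K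

theorem SP.im (h : SP Y₁ Y₂) (hφ : φ.im φ.dom = ⊤) (hd : DM Y₁ Y₂ φ.ker) : SP (imY φ Y₁) (imY φ Y₂) where
  l := h.l.im hφ
  r := h.r.im hφ
  comm := fun hP a b c d => by
    obtain ⟨P, d1, p, H⟩ := lift hφ hP
    obtain ⟨x, x1, x2, rfl⟩ := H _ h.l _ a c
    obtain ⟨y, y1, y2, rfl⟩ := H _ h.r _ b d
    rw [← app_mul (d1 x1) (d1 y1), ← app_mul (d1 y1) (d1 x1), h.comm p x1 y1 x2 y2]
  disj := fun {x'} a b => by
    obtain ⟨P, d1, p, H⟩ := lift hφ (pig_zpowers.2 ((h.l.im hφ).two a))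
    obtain ⟨x, x1, x2, e1⟩ := H _ h.l _ (mem_zpowers x') a
    obtain ⟨y, y1, y2, e2⟩ := H _ h.r _ (mem_zpowers x') b
    exact e1 ▸ (mem_ker.1 (hd P x y p x1 y1 x2 y2 ((app_eq_iff (d1 x1) (d1 y1)).1 (e1.trans e2.symm)))).2

theorem im_XZ (φ : PHom G G') (Y : Set G) : φ.im (XZ Y φ.dom) = XZ (imY φ Y) ⊤ :=
  le_antisymm ((le_pre_iff (XZ_le _ _)).1 (XZ_le_of fun s a b => mem_pre.2 ⟨a, mem_XZ (mem_top _) ⟨s, a, b, rfl⟩⟩))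
    (XZ_le_of (by rintro _ - ⟨y, a, b, rfl⟩; exact app_mem_im (mem_XZ a b) a))

theorem SP.dm_odd (h : SP Y₁ Y₂) (hK : PiG {2}ᶜ K) : DM Y₁ Y₂ K := fun P x y p a b c d e => by
  have := mem_bot.1 ((p.inf_bot hK).le (mem_inf.2 ⟨mul_mem (inv_mem a) b, e⟩))
  rw [inv_mul_eq_one] at this
  rw [h.disj c (this ▸ d)]; exact one_mem _

end

/-- the theorem for `G` -/
def Concl (G : Type u) [Group G] : Prop :=
  ∀ Y₁ Y₂ : Set G, SP Y₁ Y₂ → ⁅XZ Y₁ ⊤, XZ Y₂ ⊤⁆ ≤ O[{2}ᶜ]((⊤ : Subgroup G))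

/-- the theorem for all smaller groups -/
def IH (G : Type u) [Group G] : Prop :=
  ∀ (G' : Type u) [Group G'] [Finite G'], Nat.card G' < Nat.card G → Concl G'

variable {G : Type u} [Group G] [Finite G] {G' : Type u} [Group G'] [Finite G'] {Y Y₁ Y₂ : Set G}
  {P R M H K X S E : Subgroup G} {x y g : G}

theorem IH.im (ih : IH G) (h : SP Y₁ Y₂) (φ : PHom G G') (hd : φ.dom = H) (hφ : φ.im H = ⊤)
    (hc : H ⊓ φ.ker ≠ ⊥ ∨ H ≠ ⊤) (hk : DM Y₁ Y₂ φ.ker) : φ.im ⁅XZ Y₁ H, XZ Y₂ H⁆ ≤ O[{2}ᶜ](φ.im H) := by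
  subst hd
  rw [im_comm (XZ_le _ _) (XZ_le _ _), im_XZ, im_XZ, hφ]
  refine ih G' ?_ _ _ (h.im hφ hk)
  rw [← card_top (G := G'), ← card_top (G := G), ← hφ]
  rcases hc with c | c
  · exact (card_im_lt le_rfl c).trans_le (card_le le_top)
  · exact (Nat.le_of_dvd (card_pos _) (card_im_dvd _)).trans_lt (card_lt (lt_top_iff_ne_top.2 c))

theorem IH.sub (ih : IH G) (h : SP Y₁ Y₂) (hH : H ≠ ⊤) : ⁅XZ Y₁ H, XZ Y₂ H⁆ ≤ O[{2}ᶜ](H) := by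
  have := ih.im h (rst H) rfl (rst_im_self H) (.inr hH) (h.dm_odd (by rw [rst_ker]; exact pig_bot _))
  rw [← im_O le_rfl (by rw [rst_ker, inf_bot_eq]; exact pig_bot _)] at this
  exact le_of_im_le (comm_le (XZ_le _ _) (XZ_le _ _)) (O_le _ _) (by rw [rst_ker]; exact bot_le) this

theorem IH.quo (ih : IH G) (h : SP Y₁ Y₂) (n : ⊤ ≤ N[K]) (h0 : K ≠ ⊥) (hk : DM Y₁ Y₂ K) :
    ⁅XZ Y₁ ⊤, XZ Y₂ ⊤⁆ ÷ K ≤ O[{2}ᶜ](⊤ ÷ K) :=
  ih.im h (BG.quo K) (top_le_iff.1 n) (by rw [← top_le_iff.1 n, quo_top]) (.inl (by simpa using h0))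
    (by rwa [quo_ker])

theorem O_bot_of (hO : O[{2}ᶜ]((⊤ : Subgroup G)) = ⊥) (n : ⊤ ≤ N[K]) : O[{2}ᶜ](K) = ⊥ :=
  le_bot_iff.1 ((O_le_of_normal _ le_top n).trans hO.le)

theorem le_of_cent (hO : O[{2}ᶜ](E) = ⊥) (hR : PiG {2} R) (h1 : E ≤ C[R]) (h2 : PiG {2}ᶜ (E ÷ R)) : E ≤ R := by
  have n := cents_norm h1
  have i : PiN {2}ᶜ ((E ⊓ R).relIndex E) := by
    rw [inf_comm, inf_relIndex_right, ← card_quo n]; exact h2
  have s : Syl 2 (E ⊓ R) E := ⟨inf_le_left, hR.of_le inf_le_right, i⟩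
  have b := burnside Nat.prime_two s (inf_le_left.trans (h1.trans (centS inf_le_right)))
  have := (b.sdprod s).sup
  rw [hO, bot_sup_eq] at this
  exact this.ge.trans inf_le_right

theorem IH.lemQ (ih : IH G) (h : SP Y₁ Y₂) (hO : O[{2}ᶜ]((⊤ : Subgroup G)) = ⊥) (n : ⊤ ≤ N[R]) (h0 : R ≠ ⊥)
    (hR : PiG {2} R) (hc : XZ Y₂ ⊤ ≤ C[R]) (h2 : ∀ x ∈ R, x ∈ Y₂ → x = 1) (hk : DM Y₁ Y₂ R) :
    ⁅XZ Y₁ ⊤, XZ Y₂ ⊤⁆ = ⊥ := by
  have n1 : ⊤ ≤ N[XZ Y₁ ⊤] := h.l.norm (normG _)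
  have n2 : ⊤ ≤ N[XZ Y₂ ⊤] := h.r.norm (normG _)
  have le := le_of_cent (O_bot_of hO (normR n1 n2)) hR ((commR (le_top.trans n2)).trans hc)
    ((O_pig _ _).of_le (ih.quo h n h0 hk))
  refine comm_eq_bot'.2 (XZ_le_of fun y _ hy => mem_C.2 fun a ha => ?_)
  have m := le (comm_mem ha (mem_XZ (mem_top y) hy))
  have p : PiG {2} (R ⊔ zpowers y) := hR.sup_l (pig_zpowers.2 (h.r.two hy)) (le_top.trans n)
  have yP : y ∈ R ⊔ zpowers y := mem_sup_right (mem_zpowers y)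
  have := h2 _ m (h.r.mul p (by simpa using mul_mem (mem_sup_left m) yP) (inv_mem yP) (h.r.conj hy a) (h.r.inv hy))
  rwa [mul_inv_eq_one, mul_inv_eq_iff_eq_mul] at this

theorem IH.lemR (ih : IH G) (h : SP Y₁ Y₂) (hO : O[{2}ᶜ]((⊤ : Subgroup G)) = ⊥) (n : ⊤ ≤ N[R])
    (hR : PiG {2} R) (x1 : x ∈ R) (x2 : x ∈ Y₁) (x3 : x ≠ 1) : ⁅XZ Y₁ ⊤, XZ Y₂ ⊤⁆ = ⊥ := by
  refine ih.lemQ h hO (h.l.norm n) (ne_bot_of_mem (mem_XZ x1 x2) x3) (hR.of_le (XZ_le _ _))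
    (XZ_le_of fun y _ hy => mem_C.2 fun a ha => ?_) (fun a ha hb => h.disj (h.l.mem hR ha) hb)
    fun P a b p a1 b1 a2 b2 c => ?_
  · exact h.comm (hR.sup_l (pig_zpowers.2 (h.r.two hy)) (le_top.trans n)) (mem_sup_left (XZ_le _ _ ha))
      (mem_sup_right (mem_zpowers y)) (h.l.mem hR ha) hy
  · have := h.disj (h.l.mul p a1 (mul_mem (inv_mem a1) b1) a2 (h.l.mem hR c)) (by simpa using b2)
    rw [mul_inv_cancel_left] at this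
    simpa [this] using c

theorem SC.cent (h : SC Y) (n : ⊤ ≤ N[M]) (hO : O[{2}ᶜ](M) = ⊥) (hd : ∀ x ∈ M, x ∈ Y → x = 1) :
    XZ Y ⊤ ≤ C[M] := XZ_le_of fun y _ hy => by
  obtain ⟨S, a, b⟩ := h.syl hy (mem_top y)
  exact H8.s1251 a (h.scl a.pi) (le_top.trans n) hO (eq_bot_iff.2 fun x hx => mem_bot.2
    (hd x hx.2 (h.mem a.pi hx.1))) (mem_XZ b hy)

theorem exists_pow_two (h : PiE {2} x) (h1 : x ≠ 1) : ∃ n : ℕ, orderOf (x ^ n) = 2 := by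
  obtain ⟨y, hy, o⟩ := cauchy Nat.prime_two (A := zpowers x) (by rw [card_zpowers']; exact h.dvd h1)
  obtain ⟨n, rfl⟩ := mem_powers_iff_mem_zpowers.2 hy
  exact ⟨n, o⟩

theorem IH.caseB (ih : IH G) (h : SP Y₁ Y₂) (hO : O[{2}ᶜ]((⊤ : Subgroup G)) = ⊥) (n : ⊤ ≤ N[M]) (h0 : M ≠ ⊥)
    (hM : M ≤ ⁅XZ Y₁ ⊤, XZ Y₂ ⊤⁆) (hd : ∀ x ∈ M, x ∈ Y₂ → x = 1) : ⁅XZ Y₁ ⊤, XZ Y₂ ⊤⁆ = ⊥ := by
  have n1 : ⊤ ≤ N[XZ Y₁ ⊤] := h.l.norm (normG _)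
  have n2 : ⊤ ≤ N[XZ Y₂ ⊤] := h.r.norm (normG _)
  have o := O_bot_of hO n
  have c2 := h.r.cent n o hd
  have M2 := hM.trans (commR (le_top.trans n2))
  have ab : Abel M := M2.trans c2
  have p : PiG {2} M := by
    have := (ab.nil.dprod_O {2}).sup
    rw [o, sup_bot_eq] at this
    exact this ▸ O_pig _ _
  by_cases h1 : ∀ x ∈ M, x ∈ Y₁ → x = 1
  swap
  · push Not at h1
    obtain ⟨x, a, b, c⟩ := h1
    exact ih.lemR h hO n p a b c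
  have c1 := h.l.cent n o h1
  by_cases hk : DM Y₁ Y₂ M
  · exact ih.lemQ h hO n h0 p c2 hd hk
  unfold DM at hk
  push Not at hk
  obtain ⟨P, x, y, pP, x1, y1, x2, y2, m, xM⟩ := hk
  obtain ⟨k, o2⟩ := exists_pow_two (h.l.two x2) fun e => xM (e ▸ one_mem _)
  have cm : Commute x⁻¹ y := Commute.inv_left (h.comm pP x1 y1 x2 y2)
  have m2 := pow_mem m k
  rw [cm.mul_pow, inv_pow] at m2
  have u1 := h.l.pow x2 k
  have u2 := h.r.pow y2 k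
  generalize x ^ k = u at *
  generalize y ^ k = v at *
  set L := XZ Y₁ ⊤ ⊔ XZ Y₂ ⊤
  have nL : ⊤ ≤ N[L] := normY n1 n2
  have uL : u ∈ L := mem_sup_left (mem_XZ (mem_top _) u1)
  obtain ⟨S, s1, s2⟩ := h.l.syl u1 uL
  have mS := s1.le_of_norm' p (M2.trans le_sup_right) (le_top.trans n) m2
  have := H8.zstar_rel o2 uL s1 fun g hg hS => by
    have e : g * v * g⁻¹ = g * u * g⁻¹ * (u⁻¹ * v) := by
      have := mem_C.1 (sup_le c1 c2 hg) _ m2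
      calc _ = g * u * g⁻¹ * (g * (u⁻¹ * v)) * g⁻¹ := by group
        _ = _ := by rw [← this]; group
    have vS : v ∈ S := by simpa using mul_mem s2 mS
    have a1 := h.l.mul s1.pi hS (inv_mem s2) (h.l.conj u1 g) (h.l.inv u1)
    have a2 := h.r.mul s1.pi (e ▸ mul_mem hS mS) (inv_mem vS) (h.r.conj u2 g) (h.r.inv u2)
    rw [e, show g * u * g⁻¹ * (u⁻¹ * v) * v⁻¹ = g * u * g⁻¹ * u⁻¹ by group] at a2
    exact mul_inv_eq_one.1 (h.disj a1 a2)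
  rw [O_bot_of hO nL, le_bot_iff, comm_eq_bot] at this
  exact ih.lemR h hO (BG.normO _ nL) (O_pig {2} L) (le_O (zp_le uL) (cents_norm this) (pig_zpowers.2 (h.l.two u1))
    (mem_zpowers u)) u1 (ne_one_of_ord2 o2)

/-- the simple case -/
def Simp (G : Type u) [Group G] : Prop :=
  ∀ Y₁ Y₂ : Set G, SP Y₁ Y₂ → (∀ H : Subgroup G, H ≠ ⊤ → ⁅XZ Y₁ H, XZ Y₂ H⁆ ≤ O[{2}ᶜ](H)) → IsSimpleGroup G →
    ¬ Abel (⊤ : Subgroup G) → (∃ x ∈ Y₁, x ≠ 1) → (∃ x ∈ Y₂, x ≠ 1) → False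

theorem IH.concl (ih : IH G) (hs : Simp G) : Concl G := fun Y₁ Y₂ h => by
  have n1 : ⊤ ≤ N[XZ Y₁ ⊤] := h.l.norm (normG _)
  have n2 : ⊤ ≤ N[XZ Y₂ ⊤] := h.r.norm (normG _)
  by_cases hO : O[{2}ᶜ]((⊤ : Subgroup G)) = ⊥
  swap
  · have := ih.quo h (O_norm _ _) hO (h.dm_odd (O_pig _ _))
    rwa [O_quo_O, le_bot_iff, quo_bot_iff (le_top.trans (O_norm _ _))] at this
  by_contra hne
  have ne : ⁅XZ Y₁ ⊤, XZ Y₂ ⊤⁆ ≠ ⊥ := fun e => hne (e ▸ bot_le)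
  obtain ⟨M, m1, m2⟩ := exists_minN ne (normR n1 n2)
  by_cases h2 : ∀ x ∈ M, x ∈ Y₂ → x = 1
  · exact ne (ih.caseB h hO m2.norm m2.ne m1 h2)
  by_cases h1 : ∀ x ∈ M, x ∈ Y₁ → x = 1
  · exact ne ((commC _ _).trans (ih.caseB h.symm hO m2.norm m2.ne (m1.trans (commC _ _).le) h1))
  push Not at h1 h2
  obtain ⟨x, x1, x2, x3⟩ := h1
  obtain ⟨y, y1, y2, y3⟩ := h2
  have ab : ¬ Abel M := fun ab => ne (ih.lemR h hO (BG.normO _ m2.norm) (O_pig {2} M)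
    (ab.nil.mem_O x1 (h.l.two x2)) x2 x3)
  by_cases t : M = ⊤
  · subst t
    have : Nontrivial G := ⟨x, 1, x3⟩
    exact hs _ _ h (fun H => ih.sub h) ⟨fun H hH => or_iff_not_imp_left.2
      (m2.min H le_top (BG.normal_iff.1 hH))⟩ ab ⟨x, x2, x3⟩ ⟨y, y2, y3⟩
  · have := ih.sub h t
    rw [m2.min _ (XZ_le _ _) (h.l.norm m2.norm) (ne_bot_of_mem (mem_XZ x1 x2) x3),
      m2.min _ (XZ_le _ _) (h.r.norm m2.norm) (ne_bot_of_mem (mem_XZ y1 y2) y3), O_bot_of hO m2.norm] at this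
    exact ab (abel_iff_der.2 (le_bot_iff.1 this))

theorem concl_of (hs : ∀ (G : Type u) [Group G] [Finite G], Simp G) (n : ℕ) :
    ∀ (G : Type u) [Group G] [Finite G], Nat.card G = n → Concl G := by
  induction n using Nat.strong_induction_on with | _ n ih => ?_
  intro G _ _ e
  exact IH.concl (fun G' _ _ l => ih _ (e ▸ l) G' rfl) (hs G)

end Cfsg.Agent.G75
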