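import Cfsg.Agent.G75.A

/-! # Commuting strongly closed subgroups: the signalizer functor -/

set_option autoImplicit false
set_option linter.unusedVariables false
set_option linter.unusedSectionVars false

namespace Cfsg.Agent.G75
open Cfsg Cfsg.Agent.BG Cfsg.Agent.Inv Cfsg.Agent.SE MulAction Subgroup PHom
open Cfsg.Agent.ZD (XZ mem_XZ XZ_le XZ_le_of XZ_mono)

universe u

variable {G : Type u} [Group G] [Finite G] {Y Y₁ Y₂ : Set G}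
  {A A₁ A₂ B F P R M H K L N X S T U V W : Subgroup G} {a b x y g : G}

/-- the core of the centraliser -/
abbrev Q (b : G) : Subgroup G := O[{2}ᶜ](C1[b])

/-- the centraliser of `W` modulo `K` -/
def CM (K W : Subgroup G) : Subgroup G := (quo K).pre C[W ÷ K]

theorem le_CM (hW : W ≤ N[K]) : X ≤ CM K W ↔ X ≤ N[K] ∧ ⁅X, W⁆ ≤ K :=
  ⟨fun h => have n : X ≤ N[K] := h.trans (pre_le_dom _)
    ⟨n, (quo_cent_iff n hW).1 ((le_pre_iff n).1 h)⟩, fun h => (le_pre_iff h.1).2 ((quo_cent_iff h.1 hW).2 h.2)⟩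

theorem nQ (h : X ≤ C1[b]) : X ≤ N[Q b] := h.trans (O_norm _ _)
theorem Q_le (b : G) : Q b ≤ C1[b] := O_le _ _
theorem Q_odd (b : G) : PiG {2}ᶜ (Q b) := O_pig _ _

theorem cc (hX : PiG {2}ᶜ X) (hW : PiG {2} W) (h1 : W ≤ N[X]) (h2 : W ≤ N[K]) (h3 : X ≤ N[K])
    (h : ⁅X, W⁆ ≤ CM K W) : X ≤ CM K W :=
  (le_CM h2).2 ⟨h3, (cop_comm_comm h1 (hW.coprime hX) (.inl hW.sol)).ge.trans ((le_CM h2).1 h).2⟩

theorem rule (h1 : N ≤ H) (h2 : H ≤ N[N]) (h3 : A ≤ H) (hA : PiG {2} A) (h : ⁅N, A⁆ ≤ O[{2}ᶜ](H)) :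
    ⁅O[{2}ᶜ](H ⊓ C[A]), N⁆ ≤ O[{2}ᶜ](H) := by
  set O := O[{2}ᶜ](H)
  set D := O[{2}ᶜ](H ⊓ C[A])
  have nO : H ≤ N[O] := O_norm _ _
  have OH : O ≤ H := O_le _ _
  have DH : D ≤ H := (O_le _ _).trans inf_le_left
  have KH : N ⊔ O ≤ H := sup_le h1 OH
  have nK : H ≤ N[N ⊔ O] := normY h2 nO
  have p := (cop_prod_of_comm_le (h3.trans nO) (hA.coprime (O_pig _ _)) (.inl hA.sol) (le_sup_right : O ≤ N ⊔ O)
    (comm_sup_le h (commL (h3.trans nO)) (h1.trans nO) (normG _))).sup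
  have nD : (N ⊔ O) ⊓ C[A] ≤ N[D] := (inf_le_inf_right _ KH).trans (O_norm _ _)
  have le : D ⊓ (N ⊔ O) ≤ O := le_sup_left.trans ((le_O (sup_le inf_le_right le_sup_right) (p.ge.trans (sup_le
    (normY (normI nD (inf_le_left.trans (normG _))) ((inf_le_left.trans KH).trans nO)) (normsG le_sup_right)))
    (((O_pig _ _).of_le inf_le_left).sup_r (O_pig _ _) ((inf_le_left.trans DH).trans nO))).trans
    (O_le_of_normal _ KH nK))
  refine (commS le_rfl (le_sup_left.trans p.ge)).trans (comm_sup_le' ((le_inf (commL nD)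
    ((commS le_rfl inf_le_left).trans (commR (DH.trans nK)))).trans le) (commR (DH.trans nO))
    ((inf_le_left.trans KH).trans nO) (normG _))

theorem sup_cent (hb : PiE {2} b) (hX : PiG {2}ᶜ X) (h1 : zpowers b ≤ N[X]) (h2 : zpowers b ≤ N[L]) (h : L ≤ N[X])
    (a1 : X ⊓ C1[b] ≤ T) (a2 : L ⊓ C1[b] ≤ T) : (X ⊔ L) ⊓ C1[b] ≤ T := by
  have p := pig_zpowers.2 hb
  have := (cop_mul_cent h1 h2 (isProd_l h) (p.coprime (hX.of_le inf_le_left)) (.inl p.sol)).sup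
  rw [C_zpowers] at this
  exact this.ge.trans (sup_le a1 a2)

theorem big (hF : PiG {2}ᶜ F) (hb : PiE {2} b) (h1 : F ≤ B) (h2 : b ∈ B) (T : Subgroup G) :
    ∃ J ≤ F, B ≤ N[J] ∧ J ⊓ C1[b] ≤ T ∧ ∀ X ≤ F, B ≤ N[X] → X ⊓ C1[b] ≤ T → X ≤ J := by
  obtain ⟨J, -, ⟨j1, j2, j3⟩, m⟩ := exists_maximal (P := fun J => J ≤ F ∧ B ≤ N[J] ∧ J ⊓ C1[b] ≤ T) (A := ⊥)
    ⟨bot_le, norm_bot _, inf_le_left.trans bot_le⟩
  exact ⟨J, j1, j2, j3, fun X a c d => le_sup_left.trans (m (X ⊔ J) ⟨sup_le a j1, normY c j2, sup_cent hb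
    (hF.of_le a) ((zp_le h2).trans c) ((zp_le h2).trans j2) ((j1.trans h1).trans c) d j3⟩ le_sup_right).le⟩

/-- a `2`-subgroup inside `Y` -/
structure In (Y : Set G) (W : Subgroup G) : Prop where
  two : PiG {2} W
  mem : ∀ {w : G}, w ∈ W → w ∈ Y

theorem In.le (h : In Y W) (hM : W ≤ M) : W ≤ XZ Y M := fun _ hw => mem_XZ (hM hw) (h.mem hw)
theorem In.of_le (h : In Y W) (hV : V ≤ W) : In Y V := ⟨h.two.of_le hV, fun a => h.mem (hV a)⟩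
theorem SC.in_XZ (h : SC Y) (hP : PiG {2} P) : In Y (XZ Y P) := ⟨hP.of_le (XZ_le _ _), h.mem hP⟩
theorem SC.in_zp (h : SC Y) (hy : y ∈ Y) : In Y (zpowers y) := ⟨pig_zpowers.2 (h.two hy), h.zp hy⟩
theorem SC.comm_le (h : SC Y) (hX : X ≤ M) (hV : V ≤ XZ Y M) : ⁅X, V⁆ ≤ XZ Y M :=
  (commS hX hV).trans (commR (h.norm (normG _)))

theorem cocyc (h : ¬ Cyc V) (h2 : Cyc (V ÷ B)) : ∃ v ∈ B, v ≠ 1 := exists_mem_ne_one (by
  rintro rfl; exact h (cyc_of_im_inj (norm_bot _) (by rw [quo_ker, inf_bot_eq]) h2))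

theorem cnj (h : SP Y₁ Y₂) (hK : PiG {2}ᶜ K) (hW : In Y₂ W) (hy : y ∈ Y₁) (h1 : W ≤ N[K]) (h2 : zpowers y ≤ N[K])
    (h3 : ⁅zpowers y, W⁆ ≤ K) : ∃ q ∈ K, q⁻¹ * y * q ∈ C[W] := by
  have py := pig_zpowers.2 (h.l.two hy)
  have n : zpowers y ⊔ W ⊔ K ≤ N[K] := sup_le (sup_le h2 h1) (normG _)
  obtain ⟨P, p1, p2⟩ := syl_superset Nat.prime_two (le_sup_right.trans le_sup_left : W ≤ zpowers y ⊔ W ⊔ K) hW.two
  have e := p1.im_eq (φ := quo K) n (by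
    rw [quo_sup_r (sup_le h2 h1), im_sup h2 h1]
    exact (py.im _).sup_r (hW.two.im _) (cents_norm ((quo_cent_iff h2 h1).2 h3)))
  obtain ⟨k, hk, le⟩ := sz_sub (p1.le.trans n) ((le_sup_left.trans le_sup_left).trans
    (((quo_le_iff n (p1.le.trans n)).1 e.ge).trans (sup_comm _ _).le)) (p1.pi.coprime hK) (py.coprime hK)
    (.inl p1.pi.sol)
  exact ⟨k, hk, mem_C.2 fun w hw => (h.comm p1.pi (mem_cj.1 (le (mem_zpowers y))) (p2 hw)
    (by simpa using h.l.conj hy k⁻¹) (hW.mem hw)).symm⟩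

/-- the theorem holds in centralisers -/
structure Ctx (Y₁ Y₂ : Set G) : Prop extends SP Y₁ Y₂ where
  loc : ∀ b : G, b ≠ 1 → ⁅XZ Y₁ C1[b], XZ Y₂ C1[b]⁆ ≤ Q b

theorem Ctx.symm (h : Ctx Y₁ Y₂) : Ctx Y₂ Y₁ := ⟨h.toSP.symm, fun b hb => (commC _ _).le.trans (h.loc b hb)⟩

theorem Ctx.n1 (h : Ctx Y₁ Y₂) (hb : b ≠ 1) (hW : In Y₂ W) (h1 : W ≤ C1[b]) : XZ Y₁ C1[b] ≤ CM (Q b) W :=
  (le_CM (nQ h1)).2 ⟨nQ (XZ_le _ _), (commS le_rfl (hW.le h1)).trans (h.loc b hb)⟩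

theorem Ctx.rule1 (h : Ctx Y₁ Y₂) (ha : a ∈ Y₁) (hb : b ≠ 1) (c : a ∈ C1[b]) (hW : In Y₂ W) (h1 : W ≤ C1[b]) :
    Q a ⊓ C1[b] ≤ CM (Q b) W := by
  have := rule (XZ_le Y₂ C1[b]) (h.r.norm (normG _)) (zp_le c) (h.l.in_zp ha).two
    ((commS le_rfl ((h.l.in_zp ha).le (zp_le c))).trans (h.symm.loc b hb))
  rw [C_zpowers] at this
  exact (le_CM (nQ h1)).2 ⟨nQ inf_le_right, (commS ((le_inf inf_le_left (le_inf inf_le_right
    (inf_le_left.trans (Q_le a)))).trans (O_inf_le _ inf_le_right)) (hW.le h1)).trans this⟩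

theorem Ctx.gold (h : Ctx Y₁ Y₂) (hV : In Y₁ V) (ab : Abel V) (nc : ¬ Cyc V) (hW : In Y₂ W) (c : V ≤ C[W])
    (hU : PiG {2}ᶜ U) (n1 : V ≤ N[U]) (n2 : W ≤ N[U]) (n3 : zpowers b ≤ N[U]) (hb : b ≠ 1) (pb : PiE {2} b)
    (c1 : V ≤ C1[b]) (c2 : W ≤ C1[b]) : ⁅U, V⁆ ⊓ C1[b] ≤ CM (Q b) W := by
  have e := cop_comm_comm n1 (hV.two.coprime hU) (.inl hV.two.sol)
  have oF := hU.of_le (commL n1)
  have bV : zpowers b ≤ C[V] := zp_le (le_C1_iff.1 c1)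
  have m1 := comm_normr U V
  have m2 := normR n2 (cents_norm (cent_symm c))
  have m3 := normR n3 (cents_norm bV)
  generalize ⁅U, V⁆ = F at *
  have k2 : W ≤ N[F ⊓ C[V]] := normI m2 (normsG (cent_symm c))
  have nB : F ⊓ C[V] ⊔ W ⊔ zpowers b ≤ N[F ⊓ C[V]] := sup_le (sup_le (normG _) k2) (normI m3 (normsG bV))
  have BV : F ⊓ C[V] ⊔ W ⊔ zpowers b ≤ C[V] := sup_le (sup_le inf_le_right (cent_symm c)) bV
  obtain ⟨J, j1, j2, j3, j4⟩ := big (B := F ⊓ C[V] ⊔ W ⊔ zpowers b) (oF.of_le inf_le_left) pb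
    (le_sup_left.trans le_sup_left) (mem_sup_right (mem_zpowers b)) (CM (Q b) W)
  have WJ : W ≤ N[J] := (le_sup_right.trans le_sup_left).trans j2
  have h1 : F ⊓ C[V] ≤ CM J W := H8.s1329 ab le_rfl m1 (hV.two.coprime oF) (H8.sol_of_odd oF) e fun B0 b1 b2 => by
    obtain ⟨v, v1, v2⟩ := cocyc nc b2
    have cv := C_le_C1 (b1 v1)
    refine (le_CM WJ).2 ⟨(inf_le_left.trans (le_sup_left.trans le_sup_left)).trans j2, (le_inf ((commS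
      (inf_le_right.trans (h.l.comm_le (inf_le_right.trans (C_le_C1 v1)) (hV.le (ab.trans cv))))
      (hW.le ((cent_symm c).trans cv))).trans (h.loc v v2)) ((commS inf_le_left le_rfl).trans (commL k2))).trans
      (j4 _ inf_le_right (normI (nQ (BV.trans cv)) nB) ((inf_le_inf_right _ inf_le_left).trans
        (h.rule1 (hV.mem (b1 v1)) hb (c1 (b1 v1)) hW c2)))⟩
  have h2 : F ⊓ C[V] ⊓ C1[b] ≤ CM (Q b) W :=
    cc (oF.of_le (inf_le_left.trans inf_le_left)) hW.two (normI k2 (normsG c2)) (nQ c2) (nQ inf_le_right)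
      ((le_inf ((commS inf_le_left le_rfl).trans ((le_CM WJ).1 h1).2) (comm_le inf_le_right c2)).trans j3)
  exact (cop_cent_prod (normI m1 (normsG c1)) (hV.two.coprime (oF.of_le inf_le_left)) (.inl hV.two.sol)).sup.ge.trans
    (sup_le ((h.l.comm_le inf_le_right (hV.le c1)).trans (h.n1 hb hW c2)) ((inf_right_comm _ _ _).le.trans h2))

/-- the good signalizers -/
structure GG (A X : Subgroup G) : Prop where
  odd : PiG {2}ᶜ X
  inv : A ≤ N[X]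
  loc : ∀ b ∈ A, b ≠ 1 → ⁅X ⊓ C1[b], A⁆ ≤ Q b

/-- the bound for the functor -/
abbrev RR (A : Subgroup G) (a : G) : Subgroup G := Q a ⊔ O[{2}ᶜ](C[A])

/-- the functor -/
def th (A : Subgroup G) (a : G) : Subgroup G := sSup {X | GG A X ∧ X ≤ RR A a}

theorem th_le : th A a ≤ RR A a := sSup_le fun _ h => h.2
theorem le_th (h : GG A X) (h2 : X ≤ RR A a) : X ≤ th A a := le_sSup ⟨h, h2⟩
theorem th_inv : A ≤ N[th A a] := norm_sSup fun _ h => h.1.inv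
theorem OC_le (ha : a ∈ A) : O[{2}ᶜ](C[A]) ≤ C1[a] := (O_le _ _).trans (C_le_C1 ha)
theorem th_odd (ha : a ∈ A) : PiG {2}ᶜ (th A a) := ((Q_odd a).sup_l (O_pig _ _) (nQ (OC_le ha))).of_le th_le
theorem th_C1 (ha : a ∈ A) : th A a ≤ C1[a] := th_le.trans (sup_le (Q_le a) (OC_le ha))

theorem Ctx.part (h : Ctx Y₁ Y₂) (hA : Abel A) (pA : PiG {2} A) (ha : a ∈ A) (hb : b ∈ A) (b1 : b ≠ 1)
    (l1 : A₁ ≤ A) (l2 : A₂ ≤ A) (n1 : A₁ ≠ ⊥) (l3 : A₁ ≤ V) (hV : In Y₁ V) (ab : Abel V) (nc : ¬ Cyc V)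
    (c : V ≤ C[A]) (h2 : In Y₂ A₂) : ⁅th A a ⊓ C1[b], A₂⁆ ≤ Q b := by
  obtain ⟨x, x1, x2⟩ := exists_mem_ne_one n1
  have c1 : ∀ {y}, y ∈ A → A ≤ C1[y] := fun hy => hA.trans (C_le_C1 hy)
  have nx := nQ (c1 (l1 x1))
  have nD : A ≤ N[th A a ⊓ C[A₁] ⊓ CM (Q x) A] := normI (normI th_inv (normsG (hA.trans (centS l1))))
    (normsG ((le_CM nx).2 ⟨nx, (abel_iff_der.1 hA).le.trans bot_le⟩))
  have le : th A a ≤ ⁅th A a, A₁⁆ ⊔ th A a ⊓ C[A₁] ⊓ CM (Q x) A := sSup_le fun X hX =>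
    (cop_cent_prod (l1.trans hX.1.inv) ((pA.of_le l1).coprime hX.1.odd) (.inl (pA.of_le l1).sol)).sup.ge.trans
      (sup_le_sup (commS (le_th hX.1 hX.2) le_rfl) (le_inf (inf_le_inf_right _ (le_th hX.1 hX.2))
        ((le_CM nx).2 ⟨nQ (inf_le_right.trans (C_le_C1 x1)), (commS (inf_le_inf_left _ (C_le_C1 x1)) le_rfl).trans
          (hX.1.loc x (l1 x1) x2)⟩)))
  have cb := l2.trans (c1 hb)
  have o := th_odd ha
  refine ((le_CM (nQ cb)).1 ((inf_le_inf_right _ le).trans (sup_cent (pA.elt hb) (o.of_le (commL (l1.trans th_inv)))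
    ((zp_le hb).trans (normR th_inv (abel_norm hA l1))) ((zp_le hb).trans nD)
    ((inf_le_left.trans inf_le_left).trans (comm_norml _ _)) ?_ ?_))).2
  · refine (inf_le_inf_right _ ?_).trans (h.gold hV ab nc h2 (c.trans (centS l2)) (Q_odd a) (nQ (c.trans (C_le_C1 ha)))
      (nQ (l2.trans (c1 ha))) (nQ ((zp_le hb).trans (c1 ha))) b1 (pA.elt hb) (c.trans (C_le_C1 hb)) cb)
    exact (commS th_le le_rfl).trans ((comm_sup_cent ((O_le _ _).trans (centS l1)) (nQ (OC_le ha))).le.trans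
      (commS le_rfl l3))
  · exact cc (o.of_le (inf_le_left.trans (inf_le_left.trans inf_le_left))) h2.two (normI (l2.trans nD) (normsG cb))
      (nQ cb) (nQ inf_le_right) ((le_inf ((commS (inf_le_left.trans inf_le_right) l2).trans ((le_CM nx).1 le_rfl).2)
      (comm_le inf_le_right cb)).trans (h.rule1 (hV.mem (l3 x1)) b1 (c1 hb (l1 x1)) h2 cb))

theorem complete (hA : Abelem 2 A) (h3 : 2 ^ 3 ≤ #A) (h : ∀ a ∈ A, GG A (th A a)) :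
    ∃ Θ, PiG {2}ᶜ Θ ∧ ∀ a ∈ A, a ≠ 1 → ∀ X ≤ Q a, GG A X → X ≤ Θ := by
  have pA := hA.pig Nat.prime_two
  refine ⟨_, SFT.famp (SFT.complete (θ := th A) ⟨abelem_iff.1 hA, fun a ha _ => th_C1 ha,
    fun a ha _ => (pin_compl_cop Nat.prime_two).1 (th_odd ha), fun a _ _ => th_inv, fun a ha _ b hb b1 => ?_,
    fun a ha _ => H8.sol_of_odd (th_odd ha)⟩ h3), fun a ha a1 X l g => (le_th g (l.trans le_sup_left)).trans
    (SFT.le_Gen ha a1)⟩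
  have g := h a ha
  have n : A ≤ N[th A a ⊓ C1[b]] := normI g.inv (normsG (hA.abel.trans (C_le_C1 hb)))
  have o := g.odd.of_le (inf_le_left : th A a ⊓ C1[b] ≤ _)
  refine le_th ⟨o, n, fun c hc c1 => (commS (inf_le_inf_right _ inf_le_left) le_rfl).trans (g.loc c hc c1)⟩
    ((cop_cent_prod n (pA.coprime o) (.inl pA.sol)).sup.ge.trans (sup_le_sup (g.loc b hb b1) ?_))
  exact (inf_le_inf_right _ (inf_le_left.trans th_le)).trans ((modr_l (nQ (OC_le ha)) (O_le _ _)).le.trans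
    (sup_le (O_inf_le _ (C_le_C1 ha)) le_rfl))

end Cfsg.Agent.G75
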