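import Cfsg.Agent.G75.B

/-! # Commuting strongly closed subgroups: the simple case and the theorem -/

set_option autoImplicit false
set_option linter.unusedVariables false
set_option linter.unusedSectionVars false

namespace Cfsg.Agent.G75
open Cfsg Cfsg.Agent.BG Cfsg.Agent.Inv Cfsg.Agent.SE MulAction Subgroup PHom
open Cfsg.Agent.ZD (XZ mem_XZ XZ_le XZ_le_of XZ_mono)

universe u

variable {G : Type u} [Group G] [Finite G] {Y Y₁ Y₂ : Set G}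
  {A B F P R M H K L N X S T U V W : Subgroup G} {a b t u w x y z g : G}

/-- involutions of `S ∩ Y` -/
structure IT (Y : Set G) (S : Subgroup G) (u : G) : Prop where
  mem : u ∈ S
  y : u ∈ Y
  ord : orderOf u = 2

theorem IT.ne (h : IT Y S u) : u ≠ 1 := ne_one_of_ord2 h.ord

/-- the configuration in the simple group -/
structure Stp (Y₁ Y₂ : Set G) (S W : Subgroup G) (z : G) : Prop extends Ctx Y₁ Y₂ where
  syl : Syl 2 S ⊤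
  zi : IT Y₁ S z
  zc : S ≤ C1[z]
  Wl : W ≤ S
  WY : In Y₂ W
  Wa : Abelem 2 W
  Wc : #W = 2 ^ 2
  Wn : ¬ Cyc W
  four : ∀ u, IT Y₁ S u → ∃ V ≤ S, In Y₁ V ∧ Abel V ∧ ¬ Cyc V ∧ u ∈ V

/-- the part of the weak core centralising `W` -/
def G0 (Y : Set G) (S W : Subgroup G) : Subgroup G := closure {y | y ∈ Y ∧ y ∈ C[W] ∧ ∃ u, IT Y S u ∧ y ∈ C1[u]}

/-- the weak core -/
def G1 (Y : Set G) (S : Subgroup G) : Subgroup G := closure {y | y ∈ Y ∧ ∃ u, IT Y S u ∧ y ∈ C1[u]}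

theorem mem_G0 (h1 : y ∈ Y) (h2 : y ∈ C[W]) (hu : IT Y S u) (h3 : y ∈ C1[u]) : y ∈ G0 Y S W :=
  subset_closure ⟨h1, h2, u, hu, h3⟩
theorem mem_G1 (h1 : y ∈ Y) (hu : IT Y S u) (h3 : y ∈ C1[u]) : y ∈ G1 Y S := subset_closure ⟨h1, u, hu, h3⟩
theorem G0_le : G0 Y S W ≤ C[W] := (closure_le _).2 fun _ h => h.2.1

namespace Stp
variable (h : Stp Y₁ Y₂ S W z)
include h

theorem cW (h1 : x ∈ S) (h2 : x ∈ Y₁) : x ∈ C[W] :=
  mem_C.2 fun w hw => (h.comm h.syl.pi h1 (h.Wl hw) h2 (h.WY.mem hw)).symm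
theorem cA (h1 : x ∈ S) (h2 : x ∈ Y₁) : x ∈ C[W ⊔ zpowers z] := by
  rw [C_sup, C_zpowers]; exact ⟨h.cW h1 h2, h.zc h1⟩
theorem Wu (hu : IT Y₁ S u) : W ≤ C1[u] := le_C1_iff.2 (h.cW hu.mem hu.y)
theorem Aa : Abelem 2 (W ⊔ zpowers z) :=
  h.Wa.sup (abelem_zpowers (h.zi.ord ▸ pow_orderOf_eq_one z)) (by rw [C_zpowers]; exact h.Wu h.zi)
theorem Ac : 2 ^ 3 ≤ #(W ⊔ zpowers z) := by
  rw [SFT.card_sup_iv h.Wa (mul_self_of_ord h.zi.ord) (h.cW h.zi.mem h.zi.y)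
    fun e => h.zi.ne (h.disj h.zi.y (h.WY.mem e)), h.Wc]; rfl
theorem Ab (hb : b ∈ W ⊔ zpowers z) : W ⊔ zpowers z ≤ C1[b] := h.Aa.abel.trans (C_le_C1 hb)
theorem zG : z ∈ G0 Y₁ S W := mem_G0 h.zi.y (h.cW h.zi.mem h.zi.y) h.zi (mem_C1_self z)

theorem thG (ha : a ∈ W ⊔ zpowers z) : GG (W ⊔ zpowers z) (th (W ⊔ zpowers z) a) := by
  obtain ⟨V, v1, v2, v3, v4, v5⟩ := h.four z h.zi
  have p := h.Aa.pig Nat.prime_two
  exact ⟨th_odd ha, th_inv, fun b hb b1 => comm_sup_le'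
    (h.toCtx.part h.Aa.abel p ha hb b1 le_sup_right le_sup_left (ne_bot_of_mem (mem_zpowers z) h.zi.ne) (zp_le v5)
      v2 v3 v4 (fun x hx => h.cA (v1 hx) (v2.mem hx)) h.WY)
    (h.toCtx.symm.part h.Aa.abel p ha hb b1 le_sup_left le_sup_right (fun e => h.Wn (e ▸ cyc_bot)) le_rfl
      h.WY h.Wa.abel h.Wn (le_sup_left.trans h.Aa.abel) (h.l.in_zp h.zi.y))
    (nQ (le_sup_left.trans (h.Ab hb))) (nQ (le_sup_right.trans (h.Ab hb)))⟩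

theorem JW (hw : w ∈ W) (w1 : w ≠ 1) (hb : b ∈ W ⊔ zpowers z) (b1 : b ≠ 1) :
    ⁅Q w, G0 Y₁ S W⁆ ⊓ C1[b] ≤ CM (Q b) W := by
  have pb := (h.Aa.pig Nat.prime_two).elt hb
  have bw : zpowers b ≤ C1[w] := (zp_le hb).trans (h.Ab (mem_sup_left hw))
  have Wb := le_sup_left.trans (h.Ab hb)
  obtain ⟨J, j1, j2, j3, j4⟩ := big (B := Q w ⊔ zpowers b) (Q_odd w) pb le_sup_left (mem_sup_right (mem_zpowers b))
    (CM (Q b) W)
  have nJ := le_sup_left.trans j2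
  refine (inf_le_inf_right _ ((commC _ _).le.trans ((le_CM nJ).1 ((closure_le _).2 ?_)).2)).trans j3
  rintro y ⟨y1, y2, u, hu, y3⟩
  obtain ⟨V, v1, v2, v3, v4, v5⟩ := h.four u hu
  have VA : V ≤ C[W ⊔ zpowers z] := fun x hx => h.cA (v1 hx) (v2.mem hx)
  have Vw := VA.trans (C_le_C1 (mem_sup_left hw))
  have uw := (zp_le v5).trans Vw
  have ub := VA.trans (C_le_C1 hb) v5
  have bu : zpowers b ≤ C1[u] := zp_le (C1_symm ub)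
  have yw : zpowers y ≤ C1[w] := zp_le (C_le_C1 hw y2)
  have pu := (h.l.in_zp hu.y).two
  have e := (cop_cent_prod (nQ uw) (pu.coprime (Q_odd w)) (.inl pu.sol)).sup
  rw [C_zpowers] at e
  have n2 : Q w ⊓ C1[u] ≤ N[⁅Q w, zpowers u⁆ ⊔ Q w ⊓ Q u] :=
    normY (inf_le_left.trans (comm_norml _ _)) (normI (normsG inf_le_left) (nQ inf_le_right))
  have k1 := normR (nQ bw) (norm_zpowers bu)
  have k2 := normI (nQ bw) (nQ bu)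
  have le := j4 (⁅Q w, zpowers u⁆ ⊔ Q w ⊓ Q u) (sup_le (commL (nQ uw)) inf_le_left)
    (sup_le (e.ge.trans (sup_le (normsG le_sup_left) n2)) (normY k1 k2))
    (sup_cent pb ((Q_odd w).of_le (commL (nQ uw))) k1 k2 (inf_le_left.trans (comm_norml _ _))
      ((inf_le_inf_right _ (commS le_rfl (zp_le v5))).trans (h.toCtx.gold v2 v3 v4 h.WY (VA.trans (centS le_sup_left))
        (Q_odd w) (nQ Vw) (nQ (h.Wa.abel.trans (C_le_C1 hw))) (nQ bw) b1 pb (VA.trans (C_le_C1 hb)) Wb))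
      ((inf_le_inf_right _ inf_le_right).trans (h.toCtx.rule1 hu.y b1 ub h.WY Wb)))
  have key : ⁅Q w, zpowers y⁆ ≤ J := ((commS e.ge le_rfl).trans (comm_sup_le
    ((commL (normR (nQ yw) (norm_zpowers (zp_le y3)))).trans le_sup_left)
    ((le_inf ((commS inf_le_left le_rfl).trans (commL (nQ yw))) ((le_CM (nQ (zp_le y3))).1
      (h.toCtx.symm.rule1 (h.WY.mem hw) hu.ne (h.Wu hu hw) (h.l.in_zp y1) (zp_le y3))).2).trans le_sup_right)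
    (normsG le_sup_left) n2)).trans le
  exact (le_CM nJ).2 ⟨norm_of_comm_le key j1, (commC _ _).le.trans key⟩ (mem_zpowers y)

theorem JG (hw : w ∈ W) (w1 : w ≠ 1) : GG (W ⊔ zpowers z) ⁅Q w, G0 Y₁ S W⁆ := by
  have le := commL (nQ (G0_le.trans (C_le_C1 hw) : G0 Y₁ S W ≤ _))
  refine ⟨(Q_odd w).of_le le, normR (nQ (h.Ab (mem_sup_left hw))) (sup_le (cents_norm (cent_symm G0_le))
    (normsG (zp_le h.zG))), fun b hb b1 => ?_⟩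
  have c := h.Ab hb
  have n1 := nQ (le_sup_left.trans c)
  have n2 := nQ (le_sup_right.trans c)
  exact comm_sup_le' ((le_CM n1).1 (h.JW hw w1 hb b1)).2 ((le_CM n2).1 ((inf_le_inf_right _ le).trans
    (h.toCtx.symm.rule1 (h.WY.mem hw) b1 (c (mem_sup_left hw)) (h.l.in_zp h.zi.y) (le_sup_right.trans c)))).2 n1 n2

theorem c1a (h0 : G0 Y₁ S W ≤ M) (hJ : ∀ w ∈ W, w ≠ 1 → ⁅Q w, G0 Y₁ S W⁆ ≤ M) (ht : IT Y₁ S t) (hw : w ∈ W)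
    (w1 : w ≠ 1) (y1 : y ∈ Y₁) (y2 : y ∈ C1[t]) (y3 : y ∈ C1[w]) : y ∈ M := by
  have Ww := h.Wa.abel.trans (C_le_C1 hw)
  obtain ⟨q, hq, c⟩ := cnj (K := Q w ⊓ C1[t]) h.toSP ((Q_odd w).of_le inf_le_left) h.WY y1
    (normI (nQ Ww) (normsG (h.Wu ht))) (normI (nQ (zp_le y3)) (normsG (zp_le y2)))
    (le_inf ((commS ((h.l.in_zp y1).le (zp_le y3)) (h.WY.le Ww)).trans (h.loc w w1)) (comm_le (zp_le y2) (h.Wu ht)))
  have m := mem_G0 (by simpa using h.l.conj y1 q⁻¹) c ht (conj_mem' (normG _ hq.2) y2)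
  simpa [mul_assoc] using mul_mem (hJ w hw w1 (comm_mem hq.1 m)) (h0 m)

theorem c1b (h0 : G0 Y₁ S W ≤ M) (hJ : ∀ w ∈ W, w ≠ 1 → ⁅Q w, G0 Y₁ S W⁆ ≤ M) : G1 Y₁ S ≤ M := by
  refine (closure_le _).2 ?_
  rintro y' ⟨y1, t, ht, y2⟩
  obtain ⟨q, hq, c⟩ := cnj h.toSP (Q_odd t) h.WY y1 (nQ (h.Wu ht)) (nQ (zp_le y2))
    ((commS ((h.l.in_zp y1).le (zp_le y2)) (h.WY.le (h.Wu ht))).trans (h.loc t ht.ne))
  have z1 : q⁻¹ * y' * q ∈ Y₁ := by simpa using h.l.conj y1 q⁻¹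
  have z2 := conj_mem' (normG _ (Q_le _ hq)) y2
  have m := h0 (mem_G0 z1 c ht z2)
  suffices ⁅Q t, zpowers (q⁻¹ * y' * q)⁆ ≤ M by
    simpa [mul_assoc] using mul_mem (this (comm_mem hq (mem_zpowers _))) m
  generalize q⁻¹ * y' * q = y at *
  have py := (h.l.in_zp z1).two
  have cy : W ≤ C[zpowers y] := cent_symm (zp_le c)
  have le := commL (nQ (zp_le z2))
  have o := (Q_odd t).of_le le
  refine H8.gen_comm_aux _ rfl (h.Wa.abel.sup (abel_zpowers y) cy) le_sup_right le_sup_left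
    (sup_le (normR (nQ (h.Wu ht)) (cents_norm cy)) (comm_normr _ _))
    ((h.WY.two.sup_r py (cents_norm cy)).coprime o) (H8.sol_of_odd o)
    (cop_comm_comm (nQ (zp_le z2)) (py.coprime (Q_odd t)) (.inl py.sol)) fun B b1 b2 => comm_le_iff.2 fun a ha d hd => ?_
  obtain ⟨w, hw, w1⟩ := cocyc h.Wn b2
  exact mul_mem (h.c1a h0 hJ ht (b1 hw) w1 (h.l.conj (h.l.zp z1 hd) a) (conj_mem (normG _ (Q_le _ (le ha.1)))
    (zp_le z2 hd)) (conj_mem (normG _ (C_le_C1 hw ha.2)) (zp_le (C_le_C1 (b1 hw) c) hd))) (inv_mem (zp_le m hd))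

theorem ne_top [IsSimpleGroup G] (hc : ∀ b : G, b ≠ 1 → C1[b] ≠ ⊤) : G1 Y₁ S ≠ ⊤ := fun e => by
  obtain ⟨Θ, o, l⟩ := complete h.Aa h.Ac fun a => h.thG
  set J := ⨆ w : {w : G // w ∈ W ∧ w ≠ 1}, ⁅Q (w : G), G0 Y₁ S W⁆
  have oJ : PiG {2}ᶜ J := o.of_le (iSup_le fun w => l _ (mem_sup_left w.2.1) w.2.2 _
    (commL (nQ (G0_le.trans (C_le_C1 w.2.1)))) (h.JG w.2.1 w.2.2))
  have le := e.ge.trans (h.c1b (M := J ⊔ G0 Y₁ S W) le_sup_right fun w a b =>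
    (le_iSup (fun w : {w : G // w ∈ W ∧ w ≠ 1} => ⁅Q (w : G), G0 Y₁ S W⁆) ⟨w, a, b⟩).trans le_sup_left)
  rcases (BG.normal_iff.2 (le.trans (sup_le (normG _) (norm_iSup fun w => comm_normr _ _)))).eq_bot_or_eq_top with
    e | e
  · obtain ⟨w, hw, w1⟩ := exists_mem_ne_one (fun e => h.Wn (e ▸ cyc_bot) : W ≠ ⊥)
    rw [e, bot_sup_eq] at le
    exact hc w w1 (top_le_iff.1 (le.trans (G0_le.trans (C_le_C1 hw))))
  · exact h.zi.ne ((h.l.two h.zi.y).eq_one (oJ.elt (e.ge (mem_top z))))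

theorem nS : S ≤ N[G1 Y₁ S] := fun s hs => mem_N_of_cj_le (cj_le_iff.2 ((closure_le _).2 (by
  rintro y ⟨y1, t, ht, y2⟩
  exact mem_cj_inv.2 (mem_G1 (h.l.conj y1 s) ⟨conj_mem (normG _ hs) ht.mem, h.l.conj ht.y s, ord_conj ht.ord s⟩
    (by rw [← cj_C1]; exact mem_cj_conj.2 y2)))))

theorem k0 (h1 : y ∈ Y₁) (o : orderOf y = 2) (h2 : y ∈ N[G1 Y₁ S]) :
    ∃ m ∈ N[G1 Y₁ S], IT Y₁ S (m * y * m⁻¹) := by
  obtain ⟨m, hm, e⟩ := ZD.two_conj (h.syl.sub h.nS le_top) h2 (mul_self_of_ord o)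
  exact ⟨m, hm, e, h.l.conj h1 m, ord_conj o m⟩

theorem k1 (h1 : y ∈ Y₁) (o : orderOf y = 2) (h2 : g * y * g⁻¹ ∈ N[G1 Y₁ S]) (x1 : x ∈ Y₁) (x2 : x ∈ C1[y]) :
    g * x * g⁻¹ ∈ G1 Y₁ S := by
  obtain ⟨m, hm, e⟩ := h.k0 (h.l.conj h1 g) (ord_conj o g) h2
  exact (mem_N.1 hm _).2 (mem_G1 (h.l.conj (h.l.conj x1 g) m) e (by
    rw [← cj_C1, ← cj_C1]; exact mem_cj_conj.2 (mem_cj_conj.2 x2)))

theorem k2 (h1 : y ∈ Y₁) (o : orderOf y = 2) (h2 : y ∈ N[G1 Y₁ S]) (h3 : g * y * g⁻¹ ∈ N[G1 Y₁ S]) :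
    g ∈ N[G1 Y₁ S] := by
  obtain ⟨m, hm, e⟩ := h.k0 h1 o h2
  have a1 := h.k1 (g := g * m⁻¹) e.y e.ord (by simpa [mul_assoc] using h3) h.zi.y (C1_symm (h.zc e.mem))
  have : g * m⁻¹ ∈ N[G1 Y₁ S] := mem_N_of_cj_le (cj_le_iff.2 ((closure_le _).2 (by
    rintro x ⟨x1, t, ht, x2⟩
    exact mem_cj_inv.2 (h.k1 ht.y ht.ord (normG _ (h.k1 h.zi.y h.zi.ord (normG _ a1) ht.y (h.zc ht.mem))) x1 x2))))
  simpa using mul_mem this hm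

theorem false [IsSimpleGroup G] (hc : ∀ b : G, b ≠ 1 → C1[b] ≠ ⊤) : False := by
  have zG := mem_G1 h.zi.y h.zi (mem_C1_self z)
  have un : ∀ {s : G} {a b : G ⧸ N[G1 Y₁ S]}, s ∈ Y₁ → orderOf s = 2 → s • a = a → s • b = b → a = b :=
    fun a b => ZD.quot_eq fun g k c d => by
      simpa using h.k2 (g := k⁻¹ * g) (by simpa using h.l.conj a g⁻¹) (by simpa using ord_conj b g⁻¹) c
        (by simpa [mul_assoc] using d) |> inv_mem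
  have se := ZD.se_of_ZW (Z := {s | s ∈ Y₁ ∧ orderOf s = 2}) (M := N[G1 Y₁ S])
    (fun e => (BG.normal_iff.2 e.ge).eq_bot_or_eq_top.elim (fun e => h.zi.ne (mem_bot.1 (e ▸ zG))) (h.ne_top hc))
    ⟨fun a => a.2, fun a g => ⟨h.l.conj a.1 g, ord_conj a.2 g⟩, fun {s} a => by
      obtain ⟨m, -, e⟩ := ZD.two_conj h.syl (mem_top s) (mul_self_of_ord a.2)
      exact ⟨(m⁻¹ : G), smul_mk_eq_iff.2 (by simpa using h.nS e)⟩, fun a => un a.1 a.2,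
      fun {s u _ _} a b n c => un (h.l.mul ((four_abelem a.2 b.2 c).pig Nat.prime_two) (mem_sup_left (mem_zpowers s))
        (mem_sup_right (mem_zpowers u)) a.1 b.1) (ord2_iff.2 ⟨by
          nth_rewrite 1 [c]
          rw [mul_assoc, ← mul_assoc s, mul_self_of_ord a.2, one_mul, mul_self_of_ord b.2],
          fun e => n ((eq_inv_of_mul_eq_one_left e).trans (inv_of_ord b.2))⟩)⟩ ⟨h.zi.y, h.zi.ord⟩ (normG _ zG)
  obtain ⟨w, hw, w1⟩ := exists_mem_ne_one (fun e => h.Wn (e ▸ cyc_bot) : W ≠ ⊥)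
  obtain ⟨g, e⟩ := isConj_iff.1 (se_isConj se h.zi.ord (orderOf_of_pow Nat.prime_two (h.Wa.pow w hw) w1))
  exact w1 (h.disj (e ▸ h.l.conj h.zi.y g) (h.WY.mem hw))

end Stp

theorem SC.two_inv (h : SC Y) (hS : Syl 2 S ⊤) (hO : O[{2}ᶜ]((⊤ : Subgroup G)) = ⊥)
    (hc : ∀ b : G, b ≠ 1 → C1[b] ≠ ⊤) (hx : x ∈ Y) (x1 : x ≠ 1) :
    ∃ z u, IT Y S z ∧ S ≤ C1[z] ∧ IT Y S u ∧ u ≠ z := by
  obtain ⟨g, -, e⟩ := hS.cj_sub Nat.prime_two le_top (h.in_zp hx).two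
  obtain ⟨z, ⟨z1, z2⟩, z3⟩ := exists_involution_of_isPGroup ((hS.pi.of_le (inf_le_left.trans (XZ_le Y S))).pg
    Nat.prime_two) (hS.pi.nil.meet_C (XZ_le Y S) (h.norm (normG S)) (ne_bot_of_mem
      (mem_XZ (e (mem_cj_conj.2 (mem_zpowers x))) (h.conj hx g)) (by simpa using x1)))
  have zY := h.mem hS.pi z1
  by_contra! n
  have := H8.zstar_rel z3 (mem_top z) hS fun g _ hg => n z _ ⟨XZ_le _ _ z1, zY, z3⟩ (le_C1_iff.2 z2)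
    ⟨hg, h.conj zY g, ord_conj z3 g⟩
  rw [hO, le_bot_iff, comm_eq_bot, C_zpowers] at this
  exact hc z (ne_one_of_ord2 z3) (top_le_iff.1 this)

theorem SC.four (h : SC Y) (hS : PiG {2} S) (hz : IT Y S z) (hu : IT Y S u) (c : S ≤ C1[z]) (n : u ≠ z) :
    zpowers z ⊔ zpowers u ≤ S ∧ In Y (zpowers z ⊔ zpowers u) ∧ Abelem 2 (zpowers z ⊔ zpowers u) ∧
      ¬ Cyc (zpowers z ⊔ zpowers u) :=
  have c' := (mem_C1.1 (c hu.mem)).symm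
  ⟨sup_le (zp_le hz.mem) (zp_le hu.mem), (h.in_XZ hS).of_le (sup_le (zp_le (mem_XZ hz.mem hz.y))
    (zp_le (mem_XZ hu.mem hu.y))), four_abelem hz.ord hu.ord c', four_not_cyc hz.ord hu.ord c' n.symm⟩

theorem simp (G : Type u) [Group G] [Finite G] : Simp G := by
  rintro Y₁ Y₂ h ih _ ab ⟨x, x1, x2⟩ ⟨y, y1, y2⟩
  have hc : ∀ b : G, b ≠ 1 → C1[b] ≠ ⊤ := fun b hb e =>
    (BG.normal_iff.2 (normZ (normG (⊤ : Subgroup G)))).eq_bot_or_eq_top.elim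
      (fun e2 => hb (mem_bot.1 (e2 ▸ mem_inf.2 ⟨mem_top b, le_C1_iff.1 e.ge⟩))) fun e2 => ab (e2.ge.trans inf_le_right)
  have hO : O[{2}ᶜ]((⊤ : Subgroup G)) = ⊥ := (BG.normal_iff.2 (O_norm _ _)).eq_bot_or_eq_top.resolve_right fun e =>
    x2 ((h.l.two x1).eq_one ((O_pig _ _).elt (e.ge (mem_top x))))
  obtain ⟨S, hS⟩ := syl_exists Nat.prime_two (⊤ : Subgroup G)
  obtain ⟨z, u, hz, cz, hu, n⟩ := h.l.two_inv hS hO hc x1 x2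
  obtain ⟨w, v, hw, cw, hv, m⟩ := h.r.two_inv hS hO hc y1 y2
  obtain ⟨a1, a2, a3, a4⟩ := h.r.four hS.pi hw hv cw m
  refine Stp.false (W := zpowers w ⊔ zpowers v) ⟨⟨h, fun b hb => ih _ (hc b hb)⟩, hS, hz, cz, a1, a2, a3,
    SFT.V4_card (SFT.iv_iff.2 hw.ord) (SFT.iv_iff.2 hv.ord) (mem_C1.1 (cw hv.mem)).symm m, a4, fun t ht => ?_⟩ hc
  by_cases e : t = z
  · obtain ⟨b1, b2, b3, b4⟩ := h.l.four hS.pi hz hu cz n
    exact ⟨_, b1, b2, b3.abel, b4, mem_sup_left (e ▸ mem_zpowers _)⟩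
  · obtain ⟨b1, b2, b3, b4⟩ := h.l.four hS.pi hz ht cz e
    exact ⟨_, b1, b2, b3.abel, b4, mem_sup_right (mem_zpowers _)⟩

/-- **Goldschmidt 1975**, commutator form -/
theorem SP.main (h : SP Y₁ Y₂) : ⁅XZ Y₁ ⊤, XZ Y₂ ⊤⁆ ≤ O[{2}ᶜ]((⊤ : Subgroup G)) :=
  concl_of simp _ G rfl _ _ h

theorem SP.main' (h : SP Y₁ Y₂) (H : Subgroup G) : ⁅XZ Y₁ H, XZ Y₂ H⁆ ≤ O[{2}ᶜ](H) := by
  by_cases e : H = ⊤
  · exact e ▸ h.main
  · exact IH.sub (fun G' _ _ _ => concl_of simp _ G' rfl) h e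

end Cfsg.Agent.G75
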