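import Cfsg.Agent.G75.F
import Cfsg.Agent.GF.Def

/-! # The perfect core of the centraliser of a strongly closed subgroup: reduction -/

set_option autoImplicit false
set_option linter.unusedVariables false
set_option linter.unusedSectionVars false

namespace Cfsg.Agent.G75
open Cfsg Cfsg.Agent.BG Cfsg.Agent.Inv Cfsg.Agent.SE MulAction Subgroup PHom
open Cfsg.Agent.ZD (XZ mem_XZ XZ_le XZ_le_of XZ_mono)

universe u

section
variable {G : Type*} [Group G] [Finite G] {G' : Type*} [Group G'] [Finite G'] {Y : Set G}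
  {D P R M H K L X S T T' U V : Subgroup G} {x y g v : G} {φ : PHom G G'}

/-- the largest perfect subgroup -/
def Pf (X : Subgroup G) : Subgroup G := sSup {L | L ≤ X ∧ L ≤ ⁅L, L⁆}

theorem Pf_le (X : Subgroup G) : Pf X ≤ X := sSup_le fun _ h => h.1
theorem le_Pf (h1 : L ≤ X) (h2 : L ≤ ⁅L, L⁆) : L ≤ Pf X := le_sSup ⟨h1, h2⟩
theorem Pf_perf (X : Subgroup G) : Pf X ≤ ⁅Pf X, Pf X⁆ :=
  sSup_le fun _ h => h.2.trans (commS (le_Pf h.1 h.2) (le_Pf h.1 h.2))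
theorem cj_Pf_le (g : G) (X : Subgroup G) : cj g (Pf X) ≤ Pf (cj g X) :=
  le_Pf (cj_mono g (Pf_le X)) (cj_comm g _ _ ▸ cj_mono g (Pf_perf X))
theorem cj_Pf (g : G) (X : Subgroup G) : cj g (Pf X) = Pf (cj g X) :=
  le_antisymm (cj_Pf_le g X) (le_cj_iff.2 (by simpa using cj_Pf_le g⁻¹ (cj g X)))
theorem perf_bot (p : L ≤ ⁅L, L⁆) (s : Sol L) : L = ⊥ := by_contra fun h => (s.der_lt h).not_ge p
theorem perf_comm (p : L ≤ ⁅L, L⁆) (h1 : L ≤ N[K]) (h2 : X ≤ N[K]) (h : ⁅⁅X, L⁆, L⁆ ≤ K) : ⁅L, X⁆ ≤ K :=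
  (commS p le_rfl).trans (three_subgroup_mod h1 h2 h1 (by rwa [commC L X]) h)

/-- a largest `2`-subgroup of `H` inside `Y` -/
structure YS (Y : Set G) (T H : Subgroup G) : Prop where
  i : In Y T
  le : T ≤ H
  mx : ∀ P, In Y P → P ≤ H → #P ≤ #T

theorem In.cj (h : SC Y) (hP : In Y P) (g : G) : In Y (cj g P) :=
  ⟨hP.two.cj g, by rintro _ ⟨x, hx, rfl⟩; exact h.conj (hP.mem hx) g⟩

theorem SC.cj_sub (h : SC Y) (hS : Syl 2 S H) (hP : In Y P) (l : P ≤ H) : ∃ g ∈ H, cj g P ≤ XZ Y S := by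
  obtain ⟨g, hg, e⟩ := hS.cj_sub Nat.prime_two l hP.two
  exact ⟨g, hg, (hP.cj h g).le e⟩

theorem SC.ys (h : SC Y) (hS : Syl 2 S H) : YS Y (XZ Y S) H :=
  ⟨h.in_XZ hS.pi, (XZ_le _ _).trans hS.le, fun P a b => by
    obtain ⟨g, -, e⟩ := h.cj_sub hS a b
    simpa using card_le e⟩

theorem YS.sub (h : YS Y T H) (h1 : T ≤ K) (h2 : K ≤ H) : YS Y T K := ⟨h.i, h1, fun P a b => h.mx P a (b.trans h2)⟩
theorem YS.eq (h : YS Y T H) (hP : In Y P) (h1 : P ≤ H) (h2 : T ≤ P) : T = P :=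
  eq_of_le_of_card_ge h2 (h.mx P hP h1)
theorem YS.syl (h : YS Y T H) (hY : SC Y) (hU : PiG {2} U) (h1 : U ≤ H) (h2 : U ≤ N[T]) :
    ∃ S, Syl 2 S H ∧ U ≤ S ∧ T = XZ Y S := by
  obtain ⟨S, a, b⟩ := syl_superset Nat.prime_two (sup_le h.le h1) (h.i.two.sup_l hU h2)
  exact ⟨S, a, le_sup_right.trans b, h.eq (hY.ys a).i (hY.ys a).le (h.i.le (le_sup_left.trans b))⟩
theorem YS.cj_sub (h : YS Y T H) (hY : SC Y) (hP : In Y P) (l : P ≤ H) : ∃ g ∈ H, cj g P ≤ T := by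
  obtain ⟨S, a, -, rfl⟩ := h.syl hY (pig_bot _) bot_le bot_le
  exact hY.cj_sub a hP l
theorem YS.conj (h : YS Y T H) (hY : SC Y) (h' : YS Y T' H) : ∃ g ∈ H, cj g T' = T := by
  obtain ⟨g, hg, e⟩ := h.cj_sub hY h'.i h'.le
  exact ⟨g, hg, eq_of_le_of_card_ge e (by simpa using h'.mx T h.i h.le)⟩
theorem YS.cj (h : YS Y T ⊤) (hY : SC Y) (g : G) : YS Y (cj g T) ⊤ :=
  ⟨h.i.cj hY g, le_top, fun P a b => by simpa using h.mx P a b⟩

theorem YS.im (h : YS Y T φ.dom) (hY : SC Y) (hφ : φ.im φ.dom = ⊤) : YS (imY φ Y) (φ.im T) ⊤ where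
  i := ⟨h.i.two.im φ, fun hx => by
    obtain ⟨x, a, rfl⟩ := (mem_im' h.le).1 hx
    exact ⟨x, h.le a, h.i.mem a, rfl⟩⟩
  le := le_top
  mx := fun P' a _ => by
    obtain ⟨P, d, p, H⟩ := lift hφ a.two
    obtain ⟨g, hg, e⟩ := h.cj_sub hY (hY.in_XZ p) ((XZ_le _ _).trans d)
    have := card_le (im_mono (φ := φ) e)
    rw [im_cj hg, card_cj] at this
    refine (card_le fun x hx => ?_).trans this
    obtain ⟨y, y1, y2, rfl⟩ := H Y hY x hx (a.mem hx)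
    exact app_mem_im (mem_XZ y1 y2) (d y1)

/-- the `2`-elements of the perfect cores -/
def Y2 (Y : Set G) : Set G := {v | PiE {2} v ∧ ∃ T, YS Y T ⊤ ∧ v ∈ Pf C[T]}

theorem Y2.mem (h : SC Y) (hv : v ∈ Y2 Y) (hT : YS Y T ⊤) (c : v ∈ C[T]) : v ∈ Pf C[T] := by
  obtain ⟨-, T', a, b⟩ := hv
  obtain ⟨g, hg, rfl⟩ := (hT.sub (le_C1_iff.2 c) le_top).conj h (a.sub (le_C1_iff.2 (Pf_le _ b)) le_top)
  rw [← cj_C, ← cj_Pf, ← mul_inv_eq_iff_eq_mul.2 (mem_C1.1 hg)]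
  exact mem_cj_conj.2 b

/-- the inductive hypothesis for proper subgroups -/
def IHs (Y : Set G) : Prop := ∀ H T L : Subgroup G, H ≠ ⊤ → YS Y T H → L ≤ H → L ≤ ⁅L, L⁆ → L ≤ C[T] →
  ⁅L, XZ Y H⁆ ≤ O[{2}ᶜ](H)

theorem Y2.cent (h : SC Y) (ih : IHs Y) (hn : ∀ D : Subgroup G, D ≠ ⊥ → PiG {2} D → N[D] ≠ ⊤) (hv : v ∈ Y2 Y)
    (hP : In Y P) (n : v ∈ N[P]) : v ∈ C[P] := by
  have pv := pig_zpowers.2 hv.1
  suffices H : ∀ D : Subgroup G, D ≠ ⊥ → v ∈ C[D] → ∀ P, In Y P → v ∈ N[P] → D ≤ P → v ∈ C[P] by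
    by_cases e : P = ⊥
    · exact mem_C.2 fun x hx => by simp [mem_bot.1 (e ▸ hx)]
    exact H (P ⊓ C[zpowers v]) (hP.two.meet_C pv (zp_le n) e)
      (cent_symm inf_le_right (mem_zpowers v)) P hP n inf_le_left
  intro D
  induction D using WellFoundedGT.induction with | ind D IH => ?_
  intro D0 c P hP n l
  have iD := hP.of_le l
  obtain ⟨-, T, a, b⟩ := id hv
  obtain ⟨g, hg, e⟩ := (a.sub (le_C1_iff.2 (Pf_le _ b)) le_top).cj_sub h iD (le_C1_iff.2 c)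
  have a2 := a.cj h g⁻¹
  have b2 : v ∈ C[cj g⁻¹ T] := le_C1_iff.1 (cj_le_iff.2 (by
    rw [inv_inv, cj_of_mem_N (normG _ hg)]; exact le_C1_iff.2 (Pf_le _ b)))
  rw [cj_le_iff] at e
  generalize cj g⁻¹ T = T at *
  rcases e.eq_or_lt with rfl | lt
  · rwa [← a2.eq hP le_top l]
  rcases l.eq_or_lt with rfl | lt2
  · exact c
  have vD := C_le_N _ c
  obtain ⟨S, s1, s2⟩ := syl_superset Nat.prime_two (sup_le inf_le_right (zp_le vD) : (T ⊓ N[D]) ⊔ zpowers v ≤ N[D])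
    ((a2.i.two.of_le inf_le_left).sup_l pv (zp_le (C_le_N _ (centS inf_le_left b2))))
  obtain ⟨S', t1, t2⟩ := syl_superset Nat.prime_two le_top s1.pi
  have vS := s2 (mem_sup_right (mem_zpowers v))
  have y := h.ys t1
  have l3 : T ⊓ N[D] ≤ XZ Y S' := (a2.i.of_le inf_le_left).le ((le_sup_left.trans s2).trans t2)
  have lt3 := a2.i.two.nil.lt_norm lt
  have c4 := IH _ lt3 (lt3.ne_bot) (centS inf_le_left b2) _ y.i (h.norm (normG _) (t2 vS)) l3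
  have k := ih _ _ _ (hn D D0 iD.two) (h.ys s1) ((Pf_le _).trans ((centS (lt3.le.trans l3)).trans (C_le_N _)))
    (Pf_perf C[XZ Y S']) ((Pf_le _).trans (centS (XZ_mono t2)))
  have lt4 := hP.two.nil.lt_norm lt2
  have n4 : zpowers v ≤ N[P ⊓ N[D]] := normI (zp_le n) (normN (zp_le vD))
  refine IH _ lt4 lt4.ne_bot (comm_eq_bot.1 (le_bot_iff.1 ((le_inf (commR n4) ((commS (zp_le (Y2.mem h hv y c4))
    ((hP.of_le inf_le_left).le inf_le_right)).trans k)).trans ((hP.two.of_le inf_le_left).inf_bot (O_pig _ _)).le))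
    (mem_zpowers v)) P hP n inf_le_left

theorem Y2.sc (h : SC Y) (hT : YS Y T ⊤) (c : ∀ v ∈ Y2 Y, ∀ P, In Y P → v ∈ N[P] → v ∈ C[P]) : SC (Y2 Y) where
  conj := by
    rintro y ⟨a, T, b, d⟩ g
    exact ⟨pie_conj.2 a, _, b.cj h g, by rw [← cj_C, ← cj_Pf]; exact mem_cj_conj.2 d⟩
  two := fun a => a.1
  one := ⟨pie_one _, T, hT, one_mem _⟩
  mul := fun {P x y} p a b d e => by
    obtain ⟨S, s1, s2⟩ := syl_superset Nat.prime_two le_top p
    have y := h.ys s1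
    exact ⟨p.elt (mul_mem a b), _, y, mul_mem (Y2.mem h d y (c _ d _ y.i (h.norm (normG _) (s2 a))))
      (Y2.mem h e y (c _ e _ y.i (h.norm (normG _) (s2 b))))⟩

end

/-- the theorem for `G` -/
def Cn (G : Type u) [Group G] : Prop := ∀ (Y : Set G) (T L : Subgroup G), SC Y → YS Y T ⊤ → L ≤ ⁅L, L⁆ → L ≤ C[T] →
  ⁅L, XZ Y ⊤⁆ ≤ O[{2}ᶜ]((⊤ : Subgroup G))

/-- the theorem for all smaller groups -/
def IH3 (G : Type u) [Group G] : Prop :=
  ∀ (G' : Type u) [Group G'] [Finite G'], Nat.card G' < Nat.card G → Cn G'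

variable {G : Type u} [Group G] [Finite G] {G' : Type u} [Group G'] [Finite G'] {Y : Set G}
  {P R M H K L X S T : Subgroup G} {x y g : G}

theorem IH3.im (ih : IH3 G) (h : SC Y) (φ : PHom G G') (hd : φ.dom = H) (hφ : φ.im H = ⊤)
    (hc : H ⊓ φ.ker ≠ ⊥ ∨ H ≠ ⊤) (hT : YS Y T H) (l : L ≤ H) (p : L ≤ ⁅L, L⁆) (c : L ≤ C[T]) :
    φ.im ⁅L, XZ Y H⁆ ≤ O[{2}ᶜ](φ.im H) := by
  subst hd
  rw [im_comm l (XZ_le _ _), im_XZ, hφ]
  refine ih G' ?_ _ _ _ (h.im hφ) (hT.im h hφ) (im_comm l l ▸ im_mono p) (im_cent c)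
  rw [← card_top (G := G'), ← card_top (G := G), ← hφ]
  rcases hc with c | c
  · exact (card_im_lt le_rfl c).trans_le (card_le le_top)
  · exact (Nat.le_of_dvd (card_pos _) (card_im_dvd _)).trans_lt (card_lt (lt_top_iff_ne_top.2 c))

theorem IH3.sub (ih : IH3 G) (h : SC Y) : IHs Y := fun H T L hH hT l p c => by
  have := ih.im h (rst H) rfl (rst_im_self H) (.inr hH) hT l p c
  rw [← im_O le_rfl (by rw [rst_ker, inf_bot_eq]; exact pig_bot _)] at this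
  exact le_of_im_le (comm_le l (XZ_le _ _)) (O_le _ _) (by rw [rst_ker]; exact bot_le) this

theorem IH3.quo (ih : IH3 G) (h : SC Y) (n : ⊤ ≤ N[K]) (h0 : K ≠ ⊥) (hT : YS Y T ⊤) (p : L ≤ ⁅L, L⁆)
    (c : L ≤ C[T]) : ⁅L, XZ Y ⊤⁆ ÷ K ≤ O[{2}ᶜ](⊤ ÷ K) :=
  ih.im h (BG.quo K) (top_le_iff.1 n) (by rw [← top_le_iff.1 n, quo_top]) (.inl (by simpa using h0)) hT le_top p c

theorem IH3.lemQ (ih : IH3 G) (h : SC Y) (hO : O[{2}ᶜ]((⊤ : Subgroup G)) = ⊥) (n : ⊤ ≤ N[R]) (h0 : R ≠ ⊥)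
    (hR : PiG {2} R) (hT : YS Y T ⊤) (p : L ≤ ⁅L, L⁆) (c : L ≤ C[T]) : ⁅L, XZ Y ⊤⁆ = ⊥ := by
  have n2 : ⊤ ≤ N[XZ Y ⊤] := h.norm (normG _)
  have o : O[{2}ᶜ](⁅L, XZ Y ⊤⁆) = ⊥ := le_bot_iff.1 ((O_le_of_normal _ (commR (le_top.trans n2))
    (comm_normr _ _)).trans (O_bot_of hO n2).le)
  by_cases e : XZ Y R = ⊥
  · have d : ∀ x ∈ R, x ∈ Y → x = 1 := fun x a b => mem_bot.1 (e ▸ mem_XZ a b)
    have le := le_of_cent o hR ((commR (le_top.trans n2)).trans (h.cent n (O_bot_of hO n) d))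
      ((O_pig _ _).of_le (ih.quo h n h0 hT p c))
    refine comm_eq_bot'.2 (XZ_le_of fun y _ hy => mem_C.2 fun a ha => ?_)
    have m := le (comm_mem ha (mem_XZ (mem_top y) hy))
    have p : PiG {2} (R ⊔ zpowers y) := hR.sup_l (pig_zpowers.2 (h.two hy)) (le_top.trans n)
    have yP : y ∈ R ⊔ zpowers y := mem_sup_right (mem_zpowers y)
    have := d _ m (h.mul p (by simpa using mul_mem (mem_sup_left m) yP) (inv_mem yP) (h.conj hy a) (h.inv hy))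
    rwa [mul_inv_eq_one, mul_inv_eq_iff_eq_mul] at this
  · have n3 := h.norm n
    have i := h.in_XZ hR
    obtain ⟨g, -, l⟩ := hT.cj_sub h i le_top
    rw [cj_of_mem_N (n3 (mem_top g))] at l
    have c2 := c.trans (centS l)
    have le := le_of_cent o i.two ((commS c2 le_rfl).trans (commL (le_top.trans (normC n3))))
      ((O_pig _ _).of_le (ih.quo h n3 e hT p c))
    exact le_bot_iff.1 (perf_comm p (norm_bot _) (norm_bot _) ((commS ((commC _ _).le.trans le) le_rfl).trans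
      (comm_eq_bot'.2 c2).le))

theorem fin_se [M.Normal] [IsSimpleGroup M] (h : SC Y) (hT : YS Y T ⊤) (p : L ≤ ⁅L, L⁆) (c : L ≤ C[T])
    (x1 : x ∈ M) (x2 : x ∈ Y) (x3 : orderOf x = 2) {H : Subgroup M} (se : IsStronglyEmbedded H) : L ≤ C[M] := by
  obtain ⟨h2, t, Q, R⟩ := r1_se se
  have := faithful_quot se.1
  have i : In Y ((R.Q0 h2).map M.subtype) := ⟨((pig_iff Nat.prime_two).2 (R.pQ0 h2)).map _, by
    rintro _ ⟨z, hz, rfl⟩
    by_cases z1 : z = 1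
    · simpa [z1] using h.one
    obtain ⟨g, e⟩ := isConj_iff.1 (se_isConj se (a := ⟨x, x1⟩) (by rw [← x3, orderOf_mk]) (ord2_iff.2 ⟨hz.2, z1⟩))
    exact e ▸ h.conj x2 g⟩
  obtain ⟨g, -, l⟩ := hT.cj_sub h i le_top
  have c2 : cj g⁻¹ L ≤ C[(R.Q0 h2).map M.subtype] := by
    rw [cj_le_iff, inv_inv, cj_C]; exact c.trans (centS l)
  have e := perf_bot (L := (cj g⁻¹ L).map (MulAut.conjNormal (H := M))) (by
    rw [← map_commutator, ← cj_comm]; exact map_mono (cj_mono _ p)) ((C0.sol (S := R) (h2 := h2)).of_le (by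
      rintro _ ⟨a, ha, rfl⟩ z hz
      exact Subtype.ext (by rw [MulAut.conjNormal_apply, ← mem_C.1 (c2 ha) z ⟨z, hz, rfl⟩, mul_inv_cancel_right])))
  rw [← cj_of_mem_N (normC (BG.normal_iff.1 ‹_›) (mem_top g)), le_cj_iff]
  refine fun a ha => mem_C.2 fun z hz => ?_
  have := congrArg (fun σ : MulAut M => (σ ⟨z, hz⟩ : G)) (mem_bot.1 (e.le (mem_map_of_mem _ ha)))
  exact (mul_inv_eq_iff_eq_mul.1 (by simpa using this)).symm

theorem fin_ab (n : ⊤ ≤ N[M]) (o : O[{2}ᶜ](M) = ⊥) (s : Syl 2 P M) (p : L ≤ ⁅L, L⁆) (c : L ≤ C[P]) (l : P ≤ L) :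
    Abel M := by
  have a := l.trans c
  have s2 := s.sub (le_inf s.le a) inf_le_left
  have nD : N[P] ≤ N[M ⊓ C[P]] := normI (le_top.trans n) (normC le_rfl)
  have nO := BG.normO {2}ᶜ nD
  have nL := cents_norm c
  have e := ((burnside Nat.prime_two s2 (inf_le_left.trans inf_le_right)).sdprod s2).sup
  have k := perf_comm (X := M ⊓ N[P]) p (nL.trans nO) (inf_le_right.trans nO) ((commS (le_inf ((commS inf_le_left
    le_rfl).trans (commL (le_top.trans n))) ((commS inf_le_right c).trans (commR (normC le_rfl)))) le_rfl).trans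
    ((commS e.ge le_rfl).trans (comm_sup_le (commL (nL.trans nO)) ((comm_eq_bot'.2 c).le.trans bot_le) (normG _)
      ((normG _).trans nO))))
  have := ((burnside Nat.prime_two s (comm_eq_bot'.1 (le_bot_iff.1 ((le_inf (commL inf_le_right)
    ((commS l le_rfl).trans k)).trans (s.pi.inf_bot (O_pig _ _)).le)))).sdprod s).sup
  rw [o, bot_sup_eq] at this
  exact this ▸ a

theorem IH3.fin (ih : IH3 G) (gs : ∀ (K : Type u) [Group K] [Finite K] [IsSimpleGroup K],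
    ¬ IsMulCommutative K → GF.GS K) (h : SC Y) (hT : YS Y T ⊤) (p : L ≤ ⁅L, L⁆) (c : L ≤ C[T])
    (hO : O[{2}ᶜ]((⊤ : Subgroup G)) = ⊥) (n : ⊤ ≤ N[M]) [IsSimpleGroup M] (ab : ¬ Abel M) (hC : C[M] = ⊥)
    (lM : M ≤ XZ Y ⊤) : L ≤ C[M] := by
  have := BG.normal_iff.2 n
  have o := O_bot_of hO n
  have k : ∀ v ∈ Y2 Y, ∀ P, In Y P → v ∈ N[P] → v ∈ C[P] := fun v hv P => Y2.cent h (ih.sub h) (fun D d1 d2 e => by
    refine d1 (le_bot_iff.1 (le_trans (cent_of_norm_inf (le_top.trans n) (le_top.trans e.ge) ?_) hC.le))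
    have := (BG.normal_iff.2 (normI e.ge n)).subgroupOf M
    rcases this.eq_bot_or_eq_top with e | e
    · simpa [disjoint_iff, inf_assoc] using e
    · have e2 : M ≤ D := (subgroupOf_eq_top.1 e).trans inf_le_left
      have : Group.IsSolvable M := (d2.of_le e2).sol
      exact (ab (abel_iff.2 (IsSimpleGroup.comm_iff_isSolvable.2 this |> fun c => ⟨⟨c⟩⟩))).elim) hv
  have h2 := Y2.sc h hT k
  have cm : ∀ {P : Subgroup G} {x y : G}, PiG {2} P → x ∈ P → y ∈ P → x ∈ Y → y ∈ Y2 Y → x * y = y * x :=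
    fun p a b d e => mem_C.1 (k _ e _ (h.in_XZ p) (h.norm (normG _) b)) _ (mem_XZ a d)
  by_cases e : ∀ x ∈ Y, x ∈ Y2 Y → x = 1
  · have := comm_eq_bot'.1 (le_bot_iff.1 ((SP.main ⟨h, h2, cm, e _⟩).trans hO.le))
    refine (perf_bot p (H8.sol_of_odd (pig_of_prime_elts fun x hx _ e => ?_))).le.trans bot_le
    exact ne_one_of_ord2 e (mem_bot.1 ((this.trans ((centS lM).trans hC.le)) (mem_XZ (mem_top x)
      ⟨pie_of_pow Nat.prime_two (e ▸ pow_orderOf_eq_one x), T, hT, le_Pf c p hx⟩)))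
  push Not at e
  have h3 : SC {x | x ∈ Y ∧ x ∈ Y2 Y ∧ x * x = 1} := ⟨fun a g => ⟨h.conj a.1 g, h2.conj a.2.1 g, by
    rw [conj_mul, a.2.2]; simp⟩, fun a => h.two a.1, ⟨h.one, h2.one, mul_one 1⟩, fun {P x y} p a b d e =>
    ⟨h.mul p a b d.1 e.1, h2.mul p a b d.2.1 e.2.1, by
      nth_rewrite 1 [cm p a b d.1 e.2.1]
      rw [mul_assoc, ← mul_assoc x, d.2.2, one_mul, e.2.2]⟩⟩
  obtain ⟨x, x1, x2, x3⟩ : ∃ x ∈ M, x ∈ {x | x ∈ Y ∧ x ∈ Y2 Y ∧ x * x = 1} ∧ x ≠ 1 := by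
    by_contra! d
    obtain ⟨x, x1, x2, x3⟩ := e
    obtain ⟨m, o2⟩ := exists_pow_two (h.two x1) x3
    exact ne_one_of_ord2 o2 (mem_bot.1 (((h3.cent n o d).trans hC.le) (mem_XZ (mem_top _)
      ⟨h.pow x1 m, h2.pow x2 m, mul_self_of_ord o2⟩)))
  have h4 := h3.im (φ := rst M) (rst_im_self M)
  have x4 : (⟨x, x1⟩ : M) ∈ imY (rst M) _ := ⟨x, x1, x2, app_eq x1⟩
  obtain ⟨S, s1, s2⟩ := h4.syl x4 (mem_top _)
  have i4 : ∀ z ∈ XZ (imY (rst M) {x | x ∈ Y ∧ x ∈ Y2 Y ∧ x * x = 1}) S,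
      z.1 ∈ {x | x ∈ Y ∧ x ∈ Y2 Y ∧ x * x = 1} := fun z hz => by
    obtain ⟨y, y1, y2, rfl⟩ := h4.mem s1.pi hz
    rw [app_eq y1]; exact y2
  rcases gs M (mt abel_iff.2 ab) S _ s1 (ne_bot_of_mem (mem_XZ s2 x4) fun e => x3 (congrArg Subtype.val e))
    ⟨le_C_iff.2 fun a ha b hb => Subtype.ext (cm (s1.pi.map M.subtype) (mem_map_of_mem _ (XZ_le _ _ ha))
      (mem_map_of_mem _ (XZ_le _ _ hb)) (i4 a ha).1 (i4 b hb).2.1), fun z hz => (sq z).trans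
      (Subtype.ext (i4 z hz).2.2)⟩ (h4.scl s1.pi) with ⟨H, se⟩ | ⟨e, -⟩
  · exact fin_se h hT p c x1 x2.1 (ord2_iff.2 ⟨x2.2.2, x3⟩) se
  have s3 := s1.map M.subtype
  rw [map_subtype_top] at s3
  have i5 : ∀ z ∈ S.map M.subtype, z ∈ Y ∧ z ∈ Y2 Y := by
    rintro _ ⟨z, hz, rfl⟩
    exact ⟨(i4 z (e ▸ hz)).1, (i4 z (e ▸ hz)).2.1⟩
  obtain ⟨S', t1, t2⟩ := syl_superset Nat.prime_two le_top s3.pi
  have y := h.ys t1
  exact (ab (fin_ab n o s3 (Pf_perf _) ((Pf_le _).trans (centS (In.le ⟨s3.pi, fun a => (i5 _ a).1⟩ t2)))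
    fun z hz => Y2.mem h (i5 z hz).2 y (k _ (i5 z hz).2 _ y.i (h.norm (normG _) (t2 hz))))).elim

theorem IH3.concl (ih : IH3 G) (gs : ∀ (K : Type u) [Group K] [Finite K] [IsSimpleGroup K],
    ¬ IsMulCommutative K → GF.GS K) : Cn G := fun Y T L h hT p c => by
  have n2 : ⊤ ≤ N[XZ Y ⊤] := h.norm (normG _)
  by_cases hO : O[{2}ᶜ]((⊤ : Subgroup G)) = ⊥
  swap
  · have := ih.quo h (O_norm _ _) hO hT p c
    rwa [O_quo_O, le_bot_iff, quo_bot_iff (le_top.trans (O_norm _ _))] at this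
  by_contra hne
  have ne : ⁅L, XZ Y ⊤⁆ ≠ ⊥ := fun e => hne (e ▸ bot_le)
  have n1 : ⊤ ≤ N[normalClosure (L : Set G)] := BG.normal_iff.1 normalClosure_normal
  obtain ⟨M, m1, m2⟩ := exists_minN (ne_bot_of_le_ne_bot ne (commS le_normalClosure le_rfl)) (normR n1 n2)
  have M2 := m1.trans (commR (le_top.trans n2))
  have o := O_bot_of hO m2.norm
  have ab : ¬ Abel M := fun ab => ne (ih.lemQ h hO m2.norm m2.ne (by
    have := (ab.nil.dprod_O {2}).sup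
    rw [o, sup_bot_eq] at this
    exact this ▸ O_pig _ _) hT p c)
  have nc : ¬ L ≤ C[M] := fun e => ab ((m1.trans (commL (le_top.trans n1))).trans
    (haveI := BG.normal_iff.2 (normC m2.norm); normalClosure_le_normal e))
  obtain ⟨x, x1, x2, x3⟩ : ∃ x ∈ M, x ∈ Y ∧ x ≠ 1 := by
    by_contra! d
    exact ab (M2.trans (h.cent m2.norm o d))
  have eM : XZ Y M = M := m2.min _ (XZ_le _ _) (h.norm m2.norm) (ne_bot_of_mem (mem_XZ x1 x2) x3)
  obtain ⟨U, hU⟩ := syl_exists Nat.prime_two L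
  obtain ⟨S, s1, s2, rfl⟩ := hT.syl h hU.pi le_top (hU.le.trans (cents_norm c))
  have s3 := s1.inf_norm' le_top m2.norm
  have t : M ⊔ L = ⊤ := by_contra fun e => nc (comm_eq_bot.1 (le_bot_iff.1 ((le_inf ((commS le_rfl (eM.ge.trans
    (XZ_mono le_sup_left))).trans (ih.sub h _ _ _ e (h.ys (Hall.sup_of_prod (isProd_l (le_top.trans m2.norm)) s3 hU
      (isProd_l (normI (s2.trans (normG _)) (le_top.trans m2.norm))))) le_sup_right p
      (c.trans (centS (XZ_mono (sup_le inf_le_left s2)))))) (commR (le_top.trans m2.norm))).trans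
    ((O_inf_le _ le_sup_left).trans o.le))))
  have hC : C[M] = ⊥ := by_contra fun e => by
    have nC := normC m2.norm
    have k : ⊤ ≤ N[(BG.quo C[M]).pre O[{2}ᶜ](⊤ ÷ C[M])] := norm_pre nC (O_norm _ _)
    rcases m2.inf_bot_or k with b | b
    · exact nc (comm_eq_bot.1 (le_bot_iff.1 ((le_inf (commR (le_top.trans m2.norm)) ((le_pre_iff (le_top.trans nC)).2
        ((im_mono (commS le_rfl M2)).trans (ih.quo h nC e hT p c)))).trans b.le)))
    · exact x3 ((h.two x2).eq_one ((pig_of_im (φ := BG.quo C[M]) (le_top.trans nC) (by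
        rw [quo_ker, (m2.inf_bot_or nC).resolve_right ab]; exact pig_bot _)
        ((O_pig _ _).of_le ((le_pre_iff (le_top.trans nC)).1 b))).elt x1))
  have : Nontrivial M := (nontrivial_iff_ne_bot M).2 m2.ne
  have : IsSimpleGroup M := ⟨fun H hH => or_iff_not_imp_left.2 fun H0 => by
    have nH : M ≤ N[H.map M.subtype] := by
      have := (normal_subgroupOf_iff_le_normalizer (map_subtype_le H)).1
        (by rw [subgroupOf, comap_map_eq_self_of_injective M.subtype_injective]; exact hH)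
      exact this
    obtain ⟨K, k1, k2⟩ := exists_minN (mt (map_eq_bot_iff_of_injective _ M.subtype_injective).1 H0) nH
    have KM := k1.trans (map_subtype_le H)
    have oK : O[{2}ᶜ](K) = ⊥ := le_bot_iff.1 ((O_le_of_normal _ KM k2.norm).trans o.le)
    have h' : SC {x | x ∈ M ∧ x ∈ Y} := ⟨fun a g => ⟨conj_mem (m2.norm (mem_top g)) a.1, h.conj a.2 g⟩,
      fun a => h.two a.2, ⟨one_mem _, h.one⟩, fun p a b d e => ⟨mul_mem d.1 e.1, h.mul p a b d.2 e.2⟩⟩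
    obtain ⟨y, y1, y2, y3⟩ : ∃ y ∈ K, y ∈ Y ∧ y ≠ 1 := by
      by_contra! d
      refine k2.ne (le_bot_iff.1 ((cent_symm (eM.ge.trans (XZ_le_of fun y a b => ?_))).trans hC.le))
      obtain ⟨S, s1, s2⟩ := h.syl b (mem_top y)
      exact H8.s1251 s1 (h'.scl s1.pi) (XZ_le_of fun x _ e => k2.norm e.1) oK (eq_bot_iff.2 fun x hx =>
        mem_bot.2 (d x hx.2 (h'.mem s1.pi hx.1).2)) (mem_XZ s2 ⟨a, b⟩)
    obtain ⟨g, hg, e⟩ := Syl.cj_sub s3 Nat.prime_two (zp_le (KM y1)) (pig_zpowers.2 (h.two y2))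
    have nK : ⊤ ≤ N[K] := t.ge.trans (sup_le k2.norm fun l hl => by
      have z1 := conj_mem (k2.norm hg) y1
      have z2 := mem_C.1 (c hl) _ (mem_XZ (e (mem_cj_conj.2 (mem_zpowers y))).1 (h.conj y2 g))
      refine mem_N_iff_cj.2 (eq_of_le_of_card_ge (k2.le_of ?_ (ne_bot_of_mem (mem_inf.2 ⟨z1, ?_⟩)
        (by simpa using y3))) (card_cj _ _).le).symm
      · rw [← cj_N, ← cj_of_mem_N (m2.norm (mem_top l))]; exact cj_mono l k2.norm
      · rw [mul_inv_eq_iff_eq_mul.2 z2.symm |>.symm]; exact mem_cj_conj.2 z1)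
    rw [eq_top_iff, ← map_le_map_iff_of_injective M.subtype_injective, map_subtype_top]
    exact (m2.min K KM nK k2.ne).ge.trans k1⟩
  exact nc (ih.fin gs h hT p c hO m2.norm ab hC M2)

theorem cn_of (gs : ∀ (K : Type u) [Group K] [Finite K] [IsSimpleGroup K], ¬ IsMulCommutative K → GF.GS K) (n : ℕ) :
    ∀ (G : Type u) [Group G] [Finite G], Nat.card G = n → Cn G := by
  induction n using Nat.strong_induction_on with | _ n ih => ?_
  intro G _ _ e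
  exact IH3.concl (fun G' _ _ l => ih _ (e ▸ l) G' rfl) gs

theorem Pf_eq (X : Subgroup G) : (⨅ n : ℕ, derivedSeries X n).map X.subtype = Pf X := by
  refine le_antisymm (le_Pf (map_subtype_le _) ?_) fun x hx => ⟨⟨x, Pf_le X hx⟩, mem_iInf.2 fun n => ?_, rfl⟩
  · obtain ⟨n, hn⟩ := WellFounded.has_min wellFounded_lt (Set.range (derivedSeries X)) ⟨_, 0, rfl⟩
    obtain ⟨⟨n, rfl⟩, hn⟩ := hn
    have e : ∀ m, derivedSeries X n ≤ derivedSeries X m := fun m => (le_total m n).elim (derivedSeries_antitone X ·)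
      fun l => ((derivedSeries_antitone X l).eq_or_lt.resolve_right (hn _ ⟨m, rfl⟩)).ge
    rw [← map_commutator, le_antisymm (iInf_le _ n) (le_iInf e)]
    exact map_mono (e (n + 1))
  · suffices (Pf X).subgroupOf X ≤ derivedSeries X n from this hx
    induction n with
    | zero => exact le_top
    | succ n ih =>
      rw [← map_le_map_iff_of_injective X.subtype_injective, derivedSeries_succ, map_commutator] at *
      rw [map_subgroupOf_eq_of_le (Pf_le X)] at *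
      exact (Pf_perf X).trans (commS ih ih)

theorem s1173 (gs : ∀ (K : Type u) [Group K] [Finite K] [IsSimpleGroup K], ¬ IsMulCommutative K → GF.GS K)
    (hO : O[{2}ᶜ]((⊤ : Subgroup G)) = ⊥) (hS : Syl 2 S ⊤) (hT : IsStronglyClosed T S) : (Pf C[T]).Normal := by
  have h := sc_CJ hS hT
  have e : XZ (CJ T) S = T := le_antisymm (XZ_le_of fun x a b => mem_of_CJ hT b a) fun x a => mem_XZ (hT.1 a) (mem_CJ a)
  have c := comm_eq_bot.1 (le_bot_iff.1 ((cn_of gs _ G rfl _ T _ h (by simpa only [e] using h.ys hS) (Pf_perf _) (Pf_le _)).trans hO.le))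
  rw [le_antisymm (le_Pf c (Pf_perf _)) (le_Pf ((Pf_le _).trans (centS (le_XZ_CJ T))) (Pf_perf _))]
  exact BG.normal_iff.2 (norm_fun Pf cj_Pf (normC (h.norm (normG _))))

end Cfsg.Agent.G75
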