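import Cfsg.Agent.G75.D

/-! # Automorphisms of Bender groups centralising the involutions of a Sylow subgroup -/

set_option autoImplicit false
set_option linter.unusedVariables false
set_option linter.unusedSectionVars false

namespace Cfsg.Agent.G75
open Cfsg Cfsg.Agent.BG Cfsg.Agent.Inv Cfsg.Agent.SE MulAction Subgroup PHom
open scoped commutatorElement MatrixGroups

theorem sol_of_der {G : Type*} [Group G] [Finite G] {A : Subgroup G} (h : Sol ⁅A, A⁆) : Sol A :=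
  sol_of_im (φ := quo ⁅A, A⁆) (der_norm A) (by rw [quo_ker]; exact h.of_le inf_le_right) (Abel.sol (abel_iff_der.2 (by
    rw [← im_comm (der_norm A) (der_norm A)]; exact (quo_bot_iff ((der_le A).trans (der_norm A))).2 le_rfl)))

variable {G Ω : Type*} [Group G] [Finite G] [MulAction G Ω] {a : Ω} {t : G} {Q : Subgroup G}
  (S : R1 G Ω a t Q) (h2 : Four G) {σ τ : MulAut G} {g g' u w : G}

local notation "𝓓" => St2 G a (t • a)

/-- automorphisms fixing `Q0` pointwise -/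
def C0 : Subgroup (MulAut G) where
  carrier := {σ | ∀ z ∈ S.Q0 h2, σ z = z}
  mul_mem' := fun a b z hz => by rw [MulAut.mul_apply, b z hz, a z hz]
  one_mem' := fun _ _ => rfl
  inv_mem' := fun {σ} a z hz => by rw [MulAut.inv_apply, MulEquiv.symm_apply_eq, a z hz]

/-- automorphisms fixing `x` -/
abbrev Fx (x : G) : Subgroup (MulAut G) := stabilizer (MulAut G) x

variable {S h2}

theorem C0.st (h : σ ∈ C0 S h2) (hg : g • a = a) : σ g • a = a := by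
  obtain ⟨z, hz, o⟩ := S.exists_inv
  have z0 : z ∈ S.Q0 h2 := ⟨S.fix hz, mul_self_of_ord o⟩
  refine S.fix_of_conj hz (ne_one_of_ord2 o) ?_
  have := h _ (S.conj_Q0 h2 hg z0)
  rw [map_mul, map_mul, h z z0, map_inv] at this
  rw [this]; exact (S.conj_Q0 h2 hg z0).1

theorem C0.tr (h : σ ∈ C0 S h2) (e : g • a = g' • a) : σ g • a = σ g' • a := by
  rw [← inv_smul_eq_iff, ← mul_smul] at e ⊢
  rw [← map_inv, ← map_mul]; exact C0.st h e

theorem C0.mem (h : σ ∈ C0 S h2) (hu : u ∈ Q) : σ u ∈ Q := by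
  have q2 : PiG {2} Q := (pig_iff Nat.prime_two).2 (S.isTT h2).two
  have s : Syl 2 Q (stabilizer G a) := ⟨S.le, q2, by
    have e := card_mul_relIndex S.le
    rw [S.card_H] at e
    rw [Nat.eq_of_mul_eq_mul_left (card_pos Q) e]
    exact pig2_of_odd S.odd_card⟩
  exact s.mem_of_normal S.norm (by simpa [PiE] using q2.elt hu) (C0.st h (S.fix hu))

theorem C0.conj (hu : u ∈ Q) : MulAut.conj u ∈ C0 S h2 := fun z hz => by
  rw [MulAut.conj_apply, ← S.Q0_cent h2 hz hu, mul_inv_cancel_right]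

theorem C0.D (h : σ ∈ C0 S h2) (ht : σ t • a = t • a) (hg : g ∈ 𝓓) : σ g ∈ 𝓓 :=
  ⟨C0.st h hg.1, by
    have := C0.tr h (g := g * t) (g' := t) (by rw [mul_smul]; exact hg.2)
    rwa [map_mul, mul_smul, ht] at this⟩

theorem C0.fix (h : σ ∈ C0 S h2) (ht : σ t • a = t • a) :
    σ t = t ∧ ∀ s ∈ Q, ∀ r ∈ Q, t * s * t = r⁻¹ * t * r → σ r = r := by
  obtain ⟨s, hs, r, hr, e⟩ := S.struct'
  have s0 : s ∈ S.Q0 h2 := ⟨S.fix hs, mul_self_of_ord (S.ord_s e)⟩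
  obtain ⟨d1, d2⟩ := S.swap_inv (w := σ t) (by rw [← map_mul, S.mul_self, map_one]) ht
  obtain ⟨m, hm⟩ := exists_sqrt_of_odd (S.oddD d1)
  have k1 : (t * σ t) ^ m ∈ S.K h2 := pow_mem (show _ ∈ S.K h2 from ⟨d1, d2⟩) m
  generalize (t * σ t) ^ m = k at *
  have e1 : σ t = k⁻¹ * t * k := by
    rw [← k1.2, S.tinv, mul_assoc _ t t, S.mul_self, mul_one, mul_assoc, hm, ← mul_assoc, S.mul_self, one_mul]
  have e2 := congrArg σ e
  simp only [map_mul, map_inv, h s s0, e1] at e2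
  have e3 := (S.struct_unique (S.fix hs) hr e (S.conj_Q0 h2 k1.1.1 s0).1 (S.conjQ k1.1.1 (C0.mem h hr)) (by
    calc _ = k * (k⁻¹ * t * k * s * (k⁻¹ * t * k)) * k⁻¹ := by group
      _ = _ := by rw [e2]; group)).1
  have k0 := S.K_free k1.1 k1.2 (S.ord_s e) (S.fix hs) e3.symm
  have e4 : σ t = t := by simpa [k0] using e1
  refine ⟨e4, fun s hs r hr e => ?_⟩
  have e2 := congrArg σ e
  simp only [map_mul, map_inv, h s ⟨S.fix hs, mul_self_of_ord (S.ord_s e)⟩, e4] at e2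
  exact (S.struct_unique (S.fix hs) hr e (S.fix hs) (C0.mem h hr) e2).2.symm

theorem C0.K (h : σ ∈ C0 S h2) (ht : σ t = t) (hg : g ∈ S.K h2) : σ g = g := by
  obtain ⟨z, hz, o⟩ := S.exists_inv
  have z0 : z ∈ S.Q0 h2 := ⟨S.fix hz, mul_self_of_ord o⟩
  refine S.K_inj (C0.D h (by rw [ht]) hg.1) (by rw [← map_inv, ← hg.2, map_mul, map_mul, map_inv, ht]) hg.1 hg.2 o
    (S.fix hz) ?_
  have := h _ (S.conj_Q0 h2 hg.1.1 z0)
  rwa [map_mul, map_mul, h z z0, map_inv] at this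

theorem C0.one [IsSimpleGroup G] (h : σ ∈ C0 S h2) (ht : σ t = t) (hQ : ∀ u ∈ Q, σ u = u) : σ = 1 :=
  MulEquiv.ext fun g => (show (⊤ : Subgroup G) ≤ σ.toMonoidHom.eqLocus (MonoidHom.id G) from
    (S.gen h2 le_rfl (S.normK' h2)).ge.trans (sup_le (sup_le hQ fun _ => C0.K h ht) (zp_le ht))) (mem_top g)

theorem C0.oneB [IsSimpleGroup G] (h : σ ∈ C0 S h2) (ht : σ t = t) (hn : ¬ IsMulCommutative Q)
    (hc : #Q = #(S.Q0 h2) ^ 2) : σ = 1 := by
  obtain ⟨s, hs, r, hr, e⟩ := S.struct'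
  have r1 := S.r_notMem h2 hc hs hr e
  have sq := fun x => S.suz_sq h2 (S.isTT h2).two hn (x := x)
  have r2 : orderOf (r * r) = 2 := ord2_iff.2 ⟨(sq r hr).2, r1⟩
  set U := Q ⊓ σ.toMonoidHom.eqLocus (MonoidHom.id G)
  have l : S.Q0 h2 ≤ U := le_inf (S.Q0_le h2) h
  have rU : r ∈ U := ⟨hr, (C0.fix h (by rw [ht])).2 s hs r hr e⟩
  have a1 := S.roots h2 inf_le_left l (fun k hk u hu => ⟨S.conjQ hk.1.1 hu.1, show σ _ = _ by
    rw [map_mul, map_mul, map_inv, C0.K h ht hk, show σ u = u from hu.2]; rfl⟩)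
    (fun u hu => sq u hu.1) r2 (sq r hr).1
  have a2 := Set.ncard_le_ncard (show (fun z => z * r) '' S.Q0 h2 ⊆ {y ∈ U | y * y = r * r} by
    rintro _ ⟨z, hz, rfl⟩
    exact ⟨mul_mem (l hz) rU, by
      rw [mul_assoc, ← mul_assoc r, ← S.Q0_cent h2 hz hr, ← mul_assoc, ← mul_assoc, hz.2, one_mul]⟩)
  rw [Set.ncard_image_of_injective _ (mul_left_injective r)] at a2
  change #(S.Q0 h2) ≤ _ at a2
  refine C0.one h ht fun u hu => ((eq_of_le_of_card_ge (inf_le_left : U ≤ Q) ?_).ge hu).2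
  rw [a1, hc, ← S.card_K' h2] at *
  nlinarith

section
variable {F : Type} [Field F] {ρ : SL(2, F) →* G} (C : SLc S h2 ρ) {M N : SL(2, F)}
include C

theorem C0.rho (h : σ ∈ C0 S h2) (ht : σ t = t) (M : SL(2, F)) : σ (ρ M) = ρ M :=
  C.ind (T := σ.toMonoidHom.eqLocus (MonoidHom.id G)) h ht M

theorem C0.mul (h : σ ∈ C0 S h2) (ht : σ t = t) (h1 : ρ M • g • a = σ g • a) (h3 : ρ N • g • a = τ g • a) :
    ρ (N * M) • g • a = (σ * τ) g • a := by
  rw [← mul_smul] at h3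
  rw [MulAut.mul_apply, ← C0.tr h h3, map_mul, map_mul, C0.rho C h ht, mul_smul, mul_smul, h1]

theorem C0.inv (h : σ ∈ C0 S h2) (ht : σ t = t) (h1 : ρ M • g • a = σ g • a) : ρ M⁻¹ • g • a = σ⁻¹ g • a := by
  rw [← mul_smul] at h1
  have := C0.tr (inv_mem h) h1
  rw [map_mul, C0.rho C (inv_mem h) (inv_mem (show σ ∈ Fx t from ht)), MulAut.inv_apply_self] at this
  rw [← this, map_inv, mul_smul, inv_smul_smul]

theorem C0.solC [IsSimpleGroup G] [FaithfulSMul G Ω] (hq : #Q = #(S.Q0 h2) ^ 3)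
    (hW : 𝓓 ⊓ C[S.Q0 h2] ≠ ⊥) : Sol (C0 S h2 ⊓ Fx t) := by
  obtain ⟨w, hw, w1, wc⟩ := C.exists_central hq hW
  obtain ⟨c, hc⟩ := C.exists_notMem hq
  obtain ⟨u, hu, u0, rfl⟩ := C.ne_a hc
  rw [← mul_smul] at hc
  have ex : ∀ σ ∈ C0 S h2 ⊓ Fx t, ∃ M, ρ M • (u * t) • a = σ (u * t) • a := fun σ h => C.reg hq hc (by
    rw [map_mul, show σ t = t from h.2, mul_smul, S.smul_mem_Δ h2 (C0.mem h.1 hu)]
    exact fun e => u0 (by rwa [← (inv_mem h).1 _ e, MulAut.inv_apply_self] at e))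
  have inj : ∀ σ ∈ C0 S h2 ⊓ Fx t, (u * t) • a = σ (u * t) • a → σ = 1 := fun σ h e =>
    C0.one h.1 h.2 fun v hv => by
      by_cases v0 : v ∈ S.Q0 h2
      · exact h.1 v v0
      obtain ⟨M, e2⟩ := C.reg hq hc (mt (S.smul_mem_Δ h2 hv).1 v0)
      have := C0.tr h.1 (g := ρ M * (u * t)) (g' := v * t) (by rw [mul_smul, e2, mul_smul])
      rw [map_mul, C0.rho C h.1 h.2, mul_smul, ← e, e2, map_mul, show σ t = t from h.2, mul_smul] at this
      exact (S.inj hv (C0.mem h.1 hv) S.ne this).symm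
  have cw : ∀ w ∈ 𝓓 ⊓ C[S.Q0 h2], MulAut.conj w ∈ C0 S h2 ⊓ Fx t ∧
      MulAut.conj w (u * t) • a = w • (u * t) • a := fun w hw =>
    ⟨⟨fun z hz => by rw [MulAut.conj_apply, ← mem_C.1 hw.2 z hz, mul_inv_cancel_right],
      mem_cent_iff_conj.1 (C1_symm (S.K_cent h2 hw.1 hw.2).1.2)⟩, by
      rw [MulAut.conj_apply, mul_smul, mul_smul, show w⁻¹ • a = a from (inv_mem hw).1.1]⟩
  have cj : ∀ σ : MulAut G, MulAut.conj (σ w) = σ * MulAut.conj w * σ⁻¹ := fun σ => by ext; simp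
  obtain ⟨P, hP⟩ := C.psi hq hw hc
  have P4 := C.tr_ne hq hw w1 hc hP
  have hP' := hP.trans (cw w hw).2.symm
  have k : ∀ σ ∈ C0 S h2 ⊓ Fx t, ∀ M, ρ M • (u * t) • a = σ (u * t) • a →
      ρ (M⁻¹ * (P * M)) • (u * t) • a = MulAut.conj (σ w) (u * t) • a := fun σ h M e => by
    rw [cj]
    exact C0.mul C (mul_mem h.1 (cw w hw).1.1) (mul_mem h.2 (cw w hw).1.2) (C0.mul C h.1 h.2 e hP')
      (C0.inv C h.1 h.2 e)
  have pm : ∀ σ ∈ C0 S h2 ⊓ Fx t, σ w = w ∨ σ w = w⁻¹ := fun σ h => by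
    obtain ⟨M, e⟩ := ex σ h
    have w2 : σ w ∈ 𝓓 ⊓ C[S.Q0 h2] := ⟨C0.D h.1 (by rw [show σ t = t from h.2]) hw.1, fun z hz => by
      rw [← h.1 z hz, ← map_mul, hw.2 z hz, map_mul]⟩
    have h1 := (k σ h M e).trans (cw _ w2).2
    refine (sl2_eq_or_inv C.two P4 (C.free' hc (by rw [C.psi_mul w2 h1 hP, C.psi_mul hw hP h1, wc _ w2]))
      (by simpa [mul_assoc] using PLoc.trS_conj M⁻¹ P)).imp (fun e3 => ?_) fun e3 => ?_ <;> rw [e3] at h1
    · exact C.Wfree' hq w2 hw hc (h1.symm.trans hP)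
    · exact C.Wfree' hq w2 (inv_mem hw) hc (h1.symm.trans (C.psi_inv hw hP))
  refine sol_of_der (Sol.of_le (A := C0 S h2 ⊓ Fx t ⊓ Fx w) (Abel.sol (le_C_iff.2 fun σ h τ h' => ?_))
    (le_inf (der_le _) (commutator_le.2 fun σ h τ h' => ?_)))
  · obtain ⟨M, e⟩ := ex σ h.1
    obtain ⟨N, e'⟩ := ex τ h'.1
    have c : ∀ σ ∈ C0 S h2 ⊓ Fx t ⊓ Fx w, ∀ M, ρ M • (u * t) • a = σ (u * t) • a → P * M = M * P :=
      fun σ h M e => by
        have := k σ h.1 M e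
        rw [show σ w = w from h.2, ← hP'] at this
        exact inv_mul_eq_iff_eq_mul.1 (C.free' hc this)
    have m1 := mul_mem (mem_inf.1 h').1 (mem_inf.1 h).1
    have := C0.mul C (inv_mem m1).1 (inv_mem m1).2 (C0.inv C m1.1 m1.2 (C0.mul C h'.1.1 h'.1.2 e' e))
      (C0.mul C h.1.1 h.1.2 e e')
    rw [PLoc.comm_of_comm_of_trS P4 (c _ h _ e) (c _ h' _ e'), mul_inv_cancel, map_one, one_smul] at this
    exact (inv_mul_eq_one.1 (inj _ (mul_mem (inv_mem m1) (mul_mem (mem_inf.1 h).1 (mem_inf.1 h').1)) this)).symm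
  · rw [commutatorElement_def, show σ * τ * σ⁻¹ * τ⁻¹ = σ * τ * (τ * σ)⁻¹ by group]
    change (σ * τ) ((τ * σ)⁻¹ w) = w
    rw [← MulEquiv.eq_symm_apply, ← MulAut.inv_apply]
    simp only [mul_inv_rev, MulAut.mul_apply]
    rcases pm _ (inv_mem h) with a | a <;> rcases pm _ (inv_mem h') with b | b <;> simp only [a, b, map_inv]
end

theorem C0.sol [IsSimpleGroup G] [FaithfulSMul G Ω] : Sol (C0 S h2) := by
  obtain ⟨q2, cs⟩ := S.isTT h2
  have s : Sol (C0 S h2 ⊓ Fx t) := by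
    rcases cs with h | ⟨hn, h | ⟨h, h4, w, w1, w2, u, u1, u2⟩⟩
    · exact sol_bot.of_le fun σ e => C0.one e.1 e.2 fun u hu => e.1 u ⟨S.fix hu, h u hu⟩
    · exact sol_bot.of_le fun σ e => C0.oneB e.1 e.2 hn (S.n2_eq h2 ▸ h)
    · obtain ⟨s, hs, r, hr, e⟩ := S.struct'
      obtain rfl := h4 s hs r hr e
      obtain ⟨F, _, _, ρ, C⟩ := S.exists_SLc h2 hs e
      exact C0.solC C (S.n2_eq h2 ▸ h) (ne_bot_of_mem (x := w) ⟨w1, fun z hz => (w2 z (S.Q0_le h2 hz) hz.2).symm⟩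
        fun e => u2 (by simp [e]))
  refine (Sol.sup_l (((pig_iff Nat.prime_two).2 q2).sol.map MulAut.conj) s (le_N_iff.2 ?_)).of_le fun σ h => ?_
  · rintro σ h _ ⟨u, hu, rfl⟩
    exact ⟨σ u, C0.mem h.1 hu, by ext; simp⟩
  · obtain ⟨u, hu, e⟩ := S.trans0 (c := σ t • a) fun e => S.ne (by simpa using C0.st (inv_mem h) e)
    have m := mul_mem (C0.conj (h2 := h2) (S := S) (inv_mem hu)) h
    rw [show σ = MulAut.conj u * (MulAut.conj u⁻¹ * σ) by simp]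
    refine mul_mem_sup ⟨u, hu, rfl⟩ ⟨m, (C0.fix m ?_).1⟩
    rw [MulAut.mul_apply, MulAut.conj_apply, inv_inv, mul_smul, mul_smul, S.fix hu, ← e, inv_smul_smul]

end Cfsg.Agent.G75
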